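import Cfsg.Agent.H595.EPX.Wt
import Cfsg.Agent.H933.HT.U33T
import Cfsg.Agent.H188.Fx.U33Main

/-!
# S5745: `H` with socle `U₃(3)` (helper595)

`UF L` : the facts about `U₃(3)` used. `kill` : in a group `G` with `|C_G(x)| ≤ z₃` for `x` of order 3 and `|C_G(x)| ≤ z₇`
for `x` of order 7, `H` extremely primitive with socle `N ≅ U₃(3)`: two-point stabilisers contain at least 8 elements of
order 3 or at least 48 elements of order 7.
-/

set_option autoImplicit false
set_option linter.unusedSectionVars false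

namespace Cfsg.Agent.H595.EPX

open MulAction Subgroup Cfsg.Agent.H284 Cfsg.Agent.H807.EPX Cfsg.Agent.H209.EPX

/-- facts about `U₃(3)` -/
structure UF (L : Type*) [Group L] : Prop where
  card : Nat.card L = 6048
  inv : ∃ t y : L, t * t = 1 ∧ t ≠ 1 ∧ y ^ 3 = 1 ∧ y ≠ 1 ∧ y * t = t * y ∧ 96 ∣ Nat.card (centralizer {t})
  one : ∀ s t : L, s * s = 1 → s ≠ 1 → t * t = 1 → t ≠ 1 → IsConj s t
  c3 : Nat.card {x : L // orderOf x = 3} ≤ 728
  e3 : ∀ (x : L) (k : ℕ), x ^ 3 ^ k = 1 → x ^ 3 = 1

theorem UF.congr {L L' : Type*} [Group L] [Group L'] (e : L ≃* L') (h : UF L) : UF L' := by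
  refine ⟨?_, ?_, ?_, ?_, ?_⟩
  · rw [← Nat.card_congr e.toEquiv]; exact h.card
  · obtain ⟨t, y, h1, h2, h3, h4, h5, h6⟩ := h.inv
    refine ⟨e t, e y, ?_, ?_, ?_, ?_, ?_, ?_⟩
    · rw [← map_mul, h1, map_one]
    · rwa [Ne, map_eq_one_iff e e.injective]
    · rw [← map_pow, h3, map_one]
    · rwa [Ne, map_eq_one_iff e e.injective]
    · rw [← map_mul, h5, map_mul]
    · have h7 : Nat.card (centralizer ({e t} : Set L')) = Nat.card (centralizer ({t} : Set L)) := by
        have h8 : centralizer ({e t} : Set L') = (centralizer ({t} : Set L)).map e.toMonoidHom := by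
          ext z
          rw [mem_centralizer_singleton_iff, Subgroup.mem_map]
          constructor
          · intro hz
            refine ⟨e.symm z, ?_, e.apply_symm_apply z⟩
            rw [mem_centralizer_singleton_iff]
            apply e.injective
            rw [map_mul, map_mul, e.apply_symm_apply, hz]
          · rintro ⟨w, hw, rfl⟩
            rw [mem_centralizer_singleton_iff] at hw
            show e w * e t = e t * e w
            rw [← map_mul, hw, map_mul]
        rw [h8]
        exact (Nat.card_congr ((centralizer ({t} : Set L)).equivMapOfInjective _ e.injective).toEquiv).symm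
      rw [h7]
      exact h6
  · intro s t h1 h2 h3 h4
    have h5 := h.one (e.symm s) (e.symm t) (by rw [← map_mul, h1, map_one])
      (by rwa [Ne, map_eq_one_iff e.symm e.symm.injective]) (by rw [← map_mul, h3, map_one])
      (by rwa [Ne, map_eq_one_iff e.symm e.symm.injective])
    obtain ⟨c, hc⟩ := isConj_iff.1 h5
    refine isConj_iff.2 ⟨e c, ?_⟩
    have h6 := congrArg e hc
    rw [map_mul, map_mul, map_inv, e.apply_symm_apply, e.apply_symm_apply] at h6
    exact h6
  · refine le_trans (le_of_eq ?_) h.c3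
    refine Nat.card_congr (Equiv.subtypeEquiv e.symm.toEquiv fun x => ?_)
    show orderOf x = 3 ↔ orderOf (e.symm x) = 3
    rw [MulEquiv.orderOf_eq]
  · intro x k hx
    have h1 := h.e3 (e.symm x) k (by rw [← map_pow, hx, map_one])
    rw [← map_pow, map_eq_one_iff e.symm e.symm.injective] at h1
    exact h1

/-- **`U₃(3)`** -/
theorem uf_psu {F : Type*} [Field F] [Fintype F] (hF : Fintype.card F = 9) : UF (Cfsg.PSU 3 F 3) := by
  have hF' : Fintype.card F = 3 ^ 2 := by rw [hF]; norm_num
  have hcard : Fintype.card F = Fintype.card Classification.RTwo.UThreeThree.K9 := by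
    rw [hF, Classification.RTwo.UThreeThree.card_k9]
  let e := (Classification.RTwo.UThreeThree.psuEquiv hF).trans
    (LieClassical.FieldTransfer.suCongr 3 3 (FiniteField.ringEquivOfCardEq hcard))
  have hU := Cfsg.Agent.H188.Fx.isU33_model.map e.symm
  have hfin : Finite (Cfsg.PSU 3 F 3) := Nat.finite_of_card_ne_zero (by rw [hU.card]; norm_num)
  have h3p : Fact (Nat.Prime 3) := ⟨Nat.prime_three⟩
  refine ⟨hU.card, ⟨_, _, hU.Z_sq, hU.Z_ne, hU.y3, hU.y1, hU.yZ, hU.card_cent⟩, ?_, ?_, ?_⟩
  · intro s t h1 h2 h3 h4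
    exact (hU.one s h1 h2).symm.trans (hU.one t h3 h4)
  · refine le_trans (le_of_eq ?_) (Cfsg.Agent.H933.HT.u33_count hF')
    refine Nat.card_congr (Equiv.subtypeEquivRight fun x => ?_)
    constructor
    · intro hx
      refine ⟨fun h1 => ?_, orderOf_dvd_iff_pow_eq_one.1 (dvd_of_eq hx)⟩
      rw [h1, orderOf_one] at hx
      omega
    · rintro ⟨h1, h2⟩
      exact orderOf_eq_prime h2 h1
  · intro x k hx
    have h1 : IsPGroup 3 (zpowers x) := by
      intro z
      obtain ⟨j, hj⟩ := mem_zpowers_iff.1 z.2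
      refine ⟨k, Subtype.ext ?_⟩
      rw [coe_pow, ← hj, ← zpow_natCast, zpow_comm, zpow_natCast, hx, one_zpow, coe_one]
    obtain ⟨P, hP⟩ := h1.exists_le_sylow
    exact (Cfsg.Agent.H933.HT.u33_sylow hF' P).2.2 x (hP (mem_zpowers x))

theorem dvd864 : ∀ d ∈ Nat.divisors 864, d % 7 = 1 → d ≤ 288 ∧ ∃ m, 864 = d * (3 * m) := by
  intro d hd h7
  have key : ∀ d ∈ Nat.divisors 864, d % 7 = 1 → d ≤ 288 ∧ 864 = d * (3 * (288 / d)) := by decide +kernel
  obtain ⟨h1, h2⟩ := key d hd h7
  exact ⟨h1, _, h2⟩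

/-- the elements of order 7 of a group of order `6048` -/
theorem seven {L : Type*} [Group L] (hL : Nat.card L = 6048) [Fact (Nat.Prime 7)] :
    Nat.card {x : L // orderOf x = 7} ≤ 1728 ∧ ∀ P : Sylow 7 L, Nat.card P = 7 ∧
      ∃ y : L, orderOf y = 3 ∧ ∀ k ∈ P, y * k * y⁻¹ ∈ P := by
  have hfin : Finite L := Nat.finite_of_card_ne_zero (by rw [hL]; norm_num)
  have hP : ∀ P : Sylow 7 L, Nat.card P = 7 := by
    intro P
    rw [P.card_eq_multiplicity, hL]
    have : Nat.factorization 6048 7 = 1 := by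
      rw [Nat.factorization_def _ (by norm_num)]
      have h1 : (6048 : ℕ) = 7 ^ 1 * 864 := by norm_num
      rw [h1, padicValNat.mul (by norm_num) (by norm_num), padicValNat.prime_pow]
      have : padicValNat 7 864 = 0 := padicValNat.eq_zero_of_not_dvd (by norm_num)
      omega
    rw [this]; norm_num
  have hn : ∀ P : Sylow 7 L, Nat.card (Sylow 7 L) ≤ 288 ∧ ∃ m, 864 = Nat.card (Sylow 7 L) * (3 * m) := by
    intro P
    have h1 := P.card_dvd_index
    have h2 : (P : Subgroup L).index = 864 := by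
      have h3 := (P : Subgroup L).card_mul_index
      rw [hL, hP] at h3
      omega
    rw [h2] at h1
    have h3 := card_sylow_modEq_one 7 L
    refine dvd864 _ (Nat.mem_divisors.2 ⟨h1, by norm_num⟩) ?_
    exact h3
  refine ⟨?_, fun P => ⟨hP P, ?_⟩⟩
  · have h1 := card_ord_le hP
    obtain ⟨P⟩ : Nonempty (Sylow 7 L) := inferInstance
    have h2 := (hn P).1
    omega
  · obtain ⟨h1, m, hm⟩ := hn P
    obtain ⟨Nz, hNz⟩ : ∃ Nz : Subgroup L, Nz = normalizer (P : Set L) := ⟨_, rfl⟩
    have h2 : Nat.card (Sylow 7 L) = Nz.index := by rw [hNz]; exact P.card_eq_index_normalizer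
    have h3 := Nz.card_mul_index
    rw [← h2, hL] at h3
    have h4 : Nat.card (Sylow 7 L) ≠ 0 := by
      intro h0
      rw [h0] at hm
      omega
    have h5 : Nat.card Nz = 7 * (3 * m) := by
      have h6 : Nat.card (Sylow 7 L) * Nat.card Nz = Nat.card (Sylow 7 L) * (7 * (3 * m)) := by
        calc Nat.card (Sylow 7 L) * Nat.card Nz = 6048 := by rw [mul_comm]; exact h3
          _ = 7 * 864 := by norm_num
          _ = 7 * (Nat.card (Sylow 7 L) * (3 * m)) := by rw [← hm]
          _ = _ := by ring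
      exact Nat.eq_of_mul_eq_mul_left (Nat.pos_of_ne_zero h4) h6
    have h3p : Fact (Nat.Prime 3) := ⟨Nat.prime_three⟩
    obtain ⟨y, hy⟩ := exists_prime_orderOf_dvd_card' (G := Nz) 3 (by rw [h5]; exact ⟨7 * m, by ring⟩)
    refine ⟨y, by rw [Subgroup.orderOf_coe]; exact hy, fun k hk => ?_⟩
    have h6 : (y : L) ∈ normalizer (P : Set L) := by rw [← hNz]; exact y.2
    exact (Subgroup.mem_normalizer_iff.1 h6 k).1 hk

end Cfsg.Agent.H595.EPX
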