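import Cfsg.Agent.H936.List12c
import Cfsg.Agent.H250.EqD.DdN
import Cfsg.Agent.H364.OutLie
import Cfsg.Agent.H824.ProdLem
import Cfsg.Agent.H934.OutB
import Cfsg.Agent.OrdDiv.Table
import Cfsg.Agent.S2119
import Cfsg.Agent.S0249
import Cfsg.Agent.S0495

/-!
# S5745: orders of the automorphism groups of the candidates of degree at most 8 (helper595)

`Od t a T` : `|T| = t` and `|Aut T| ∣ a`. `od_list` : `CandD p m T`, `m ≤ 8`, `T` not sporadic and not `A_n` with `n ≥ 8`:
`(t, a)` in an explicit list.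
-/

set_option autoImplicit false

namespace Cfsg.Agent.H595.EPX

open Cfsg Cfsg.Agent.H902 Cfsg.Agent.H902.Names Cfsg.Agent.H936.List12 Cfsg.Agent.H912.Bd Cfsg.Agent.H912.Five
open scoped MatrixGroups

/-- the orders of `T` and of `Aut T` -/
structure Od (t a : ℕ) (T : Type) [Group T] : Prop where
  card : Nat.card T = t
  aut : Nat.card (MulAut T) ∣ a

theorem Od.congr {t a : ℕ} {S T : Type} [Group S] [Group T] (e : S ≃* T) (h : Od t a S) : Od t a T :=
  ⟨(Nat.card_congr e.toEquiv).symm.trans h.card, by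
    rw [← Nat.card_congr (MulAut.congr e).toEquiv]; exact h.aut⟩

variable {T : Type} [Group T]

theorem od_L {n p f t a : ℕ} (hp : p.Prime) (hf : 1 ≤ f) (hn : 2 ≤ n) (hn2 : n = 2 → 4 ≤ p ^ f) (h : IsL n (p ^ f) T)
    (h1 : Nat.gcd n (p ^ f - 1) * t = (p ^ f) ^ (n * (n - 1) / 2) * ∏ i ∈ Finset.range (n - 1), ((p ^ f) ^ (i + 2) - 1))
    (h2 : (if n = 2 then 1 else 2) * f * (Nat.gcd n (p ^ f - 1) * t) ∣ a) : Od t a T := by
  obtain ⟨K, iK, iKf, hK, ⟨e⟩⟩ := h
  have := Fact.mk hp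
  have h3 := (psl_real hp hf hK hn hn2).eq
  have h4 : Nat.card (Matrix.ProjectiveSpecialLinearGroup (Fin n) K) = t := by
    have h5 : 0 < Nat.gcd n (p ^ f - 1) := Nat.gcd_pos_of_pos_left _ (by omega)
    exact Nat.eq_of_mul_eq_mul_left h5 (h3.trans h1.symm)
  refine Od.congr e.symm ⟨h4, ?_⟩
  rw [S0813.result p f hf hK n hn hn2, H364.OutLie.card_pgl hn, hK, h4]
  exact h2

theorem od_U {n p f t a : ℕ} (hp : p.Prime) (hf : 1 ≤ f) (hn : 3 ≤ n) (hn2 : ¬ (n = 3 ∧ p ^ f = 2))
    (h : IsU n (p ^ f) T)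
    (h1 : Nat.gcd n (p ^ f + 1) * t = (p ^ f) ^ (n * (n - 1) / 2) *
      ∏ i ∈ Finset.range (n - 1), (if Even i then (p ^ f) ^ (i + 2) - 1 else (p ^ f) ^ (i + 2) + 1))
    (h2 : Nat.gcd n (p ^ f + 1) * (2 * f) * t ∣ a) : Od t a T := by
  obtain ⟨K, iK, iKf, hK, ⟨e⟩⟩ := h
  have := Fact.mk hp
  have h3 := (psu_real hp hf hK hn hn2).eq
  have h4 : Nat.card (PSU n K (p ^ f)) = t := by
    have h5 : 0 < Nat.gcd n (p ^ f + 1) := Nat.gcd_pos_of_pos_left _ (by omega)
    exact Nat.eq_of_mul_eq_mul_left h5 (h3.trans h1.symm)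
  refine Od.congr e.symm ⟨h4, ?_⟩
  rw [S0815.result p f hf rfl hK n hn hn2, h4]
  exact h2

theorem od_S {n p f t a : ℕ} (hp : p.Prime) (hf : 1 ≤ f) (hn : 2 ≤ n) (hn2 : n = 2 → 3 ≤ p ^ f) (h : IsS n (p ^ f) T)
    (h1 : Nat.gcd 2 (p ^ f - 1) * t = (p ^ f) ^ (n ^ 2) * ∏ i ∈ Finset.range n, ((p ^ f) ^ (2 * (i + 1)) - 1))
    (h2 : (if n = 2 ∧ p = 2 then 2 else 1) * Nat.gcd 2 (p ^ f - 1) * f * t ∣ a) : Od t a T := by
  obtain ⟨K, iK, iKf, hK, ⟨e⟩⟩ := h
  have := Fact.mk hp
  have h3 := (psp_real hp hf hK hn hn2).eq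
  have h4 : Nat.card (PSp n K) = t := by
    have h5 : 0 < Nat.gcd 2 (p ^ f - 1) := Nat.gcd_pos_of_pos_left _ (by omega)
    exact Nat.eq_of_mul_eq_mul_left h5 (h3.trans h1.symm)
  refine Od.congr e.symm ⟨h4, ?_⟩
  rw [S0814.result p f hf hK n hn hn2, h4]
  exact h2

theorem od_OP {n p f t a : ℕ} (hp : p.Prime) (hf : 1 ≤ f) (hn : 4 ≤ n) (h : IsOP n (p ^ f) T)
    (h1 : Nat.gcd 4 ((p ^ f) ^ n - 1) * t = (p ^ f) ^ (n * (n - 1)) *
      (((p ^ f) ^ n - 1) * ∏ i ∈ Finset.range (n - 1), ((p ^ f) ^ (2 * (i + 1)) - 1)))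
    (h2 : (if n = 4 then 3 else 1) * (if p = 2 then 2 else (if Even (n * (p ^ f - 1) / 2) then 8 else 4)) * f * t ∣ a) :
    Od t a T := by
  obtain ⟨K, iK, iKf, hK, ⟨e⟩⟩ := h
  have := Fact.mk hp
  have h3 := (oplus_real hp hf hK hn).eq
  have h4 : Nat.card (POmega K (quadFormPlus n K)) = t := by
    have h5 : 0 < Nat.gcd 4 ((p ^ f) ^ n - 1) := Nat.gcd_pos_of_pos_left _ (by omega)
    exact Nat.eq_of_mul_eq_mul_left h5 (h3.trans h1.symm)
  refine Od.congr e.symm ⟨h4, ?_⟩
  rw [S0817.result p f hf hK n hn, h4]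
  exact h2

theorem aut_of_out [Finite T] [IsSimpleGroup T] (hna : ¬ IsMulCommutative T) {t o : ℕ} (h1 : Nat.card T = t)
    (h2 : Nat.card (Cfsg.Out T) = o) : Nat.card (MulAut T) = o * t := by
  rw [← H934.OutB.card_out_mul T hna, h1, h2]

theorem od_G24 [Finite T] [IsSimpleGroup T] (hna : ¬ IsMulCommutative T) (h : H912.Bd.IsG2 4 T) :
    Od 251596800 503193600 T := by
  obtain ⟨K, iK, iKf, hK, ⟨e⟩⟩ := h
  have hK' : Fintype.card K = 2 ^ 2 := hK
  have := Fact.mk Nat.prime_two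
  have := H364.OutLie.charP_of_card Nat.prime_two (by norm_num) hK'
  have h1 := OrdDiv.table.{0}.g2 K
  have h2 : Nat.card T = 251596800 := by
    rw [Nat.card_congr e.toEquiv, h1, hK]
    norm_num
  have h3 : Nat.card (Cfsg.Out T) = 2 := by
    rw [H934.OutB.card_out_congr e, S2121.result 2 2 hK' (by norm_num)]
    rfl
  exact ⟨h2, by rw [aut_of_out hna h2 h3]⟩

theorem od_Sz8 [Finite T] [IsSimpleGroup T] (hna : ¬ IsMulCommutative T) (h : IsSz8 T) : Od 29120 87360 T := by
  obtain ⟨K, iK, iKf, hK, ⟨e⟩⟩ := h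
  have h1 := OrdDiv.table.{0}.sz K 1 le_rfl hK
  have h2 : Nat.card T = 29120 := by
    rw [Nat.card_congr e.toEquiv]
    exact h1
  have h3 : Nat.card (Cfsg.Out T) = 3 := by
    rw [H934.OutB.card_out_congr e]
    exact S2126.result (F := K) (m := 1) le_rfl hK
  exact ⟨h2, by rw [aut_of_out hna h2 h3]⟩

theorem od_A {m : ℕ} (h5 : 5 ≤ m) (h6 : m ≠ 6) (e : T ≃* alternatingGroup (Fin m)) :
    Od (m.factorial / 2) m.factorial T := by
  have hm : Nontrivial (Fin m) := Fin.nontrivial_iff_two_le.2 (by omega)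
  refine Od.congr e.symm ⟨?_, ?_⟩
  · rw [nat_card_alternatingGroup, Nat.card_eq_fintype_card, Fintype.card_fin]
  · rw [← Nat.card_congr (Equiv.ofBijective _ (S2119.result m (by omega) h6)),
      Nat.card_eq_fintype_card, Fintype.card_perm, Fintype.card_fin]

theorem od_A6 (e : T ≃* alternatingGroup (Fin 6)) : Od 360 1440 T := by
  refine Od.congr e.symm ⟨?_, ?_⟩
  · rw [nat_card_alternatingGroup, Nat.card_eq_fintype_card, Fintype.card_fin]
    rfl
  · rw [H824.ProdLem.card_aut_a6]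

/-- `L₂(7) ≅ L₃(2)` -/
theorem lie_two_of_l27 (h : IsL 2 7 T) : IsLieTypeChar 2 T := by
  obtain ⟨K, iK, iKf, hK, ⟨e⟩⟩ := h
  have hs : IsSimpleGroup (Matrix.ProjectiveSpecialLinearGroup (Fin 3) (ZMod 2)) := S0249.result 3 le_rfl
  have h3 := (psl_real (F := ZMod 2) (n := 3) Nat.prime_two le_rfl (by simp [ZMod.card]) (by norm_num) (by norm_num)).eq
  have h4 : Nat.card (Matrix.ProjectiveSpecialLinearGroup (Fin 3) (ZMod 2)) = 168 := by
    simp [Art.dd, Art.NN, Art.num, Finset.prod_range_succ] at h3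
    simpa using h3
  have hf : Finite (Matrix.ProjectiveSpecialLinearGroup (Fin 3) (ZMod 2)) :=
    Nat.finite_of_card_ne_zero (by rw [h4]; norm_num)
  obtain ⟨e'⟩ := S0495.result h4 hK
  exact lie_of_isL (m := 3) (q := 2) Nat.prime_two (dvd_refl 2) (by norm_num) (by norm_num)
    ⟨ZMod 2, inferInstance, inferInstance, ZMod.card 2, ⟨e.trans e'.symm⟩⟩

/-- excluded characteristics, `|T|`, a multiple of `|Aut T|` -/
def lst : List (List ℕ × ℕ × ℕ) :=
  [([2, 7], 168, 336), ([2], 504, 1512), ([11], 660, 1320), ([13], 1092, 2184), ([17], 2448, 4896),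
    ([3], 5616, 11232), ([3], 6048, 12096), ([2, 3], 25920, 51840), ([2], 13685760, 27371520),
    ([2], 1451520, 1451520), ([2], 174182400, 1045094400), ([2], 20160, 241920), ([3], 3265920, 26127360),
    ([2], 251596800, 503193600), ([2], 29120, 87360)]

theorem od_list [Finite T] [IsSimpleGroup T] (hna : ¬ IsMulCommutative T) {p m : ℕ} [hp : Fact p.Prime] (hm : m ≤ 8)
    (hc : CandD p m T) (hL : ¬ IsLieTypeChar p T) (hsp : ¬ IsSporadicGroup T) :
    (∃ n, 5 ≤ n ∧ Nonempty (T ≃* alternatingGroup (Fin n))) ∨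
      ∃ x ∈ lst, p ∉ x.1 ∧ Od x.2.1 x.2.2 T ∧ (x.2.1 = 6048 → IsU 3 3 T) := by
  have hpp := hp.out
  have l27 : p ≠ 7 → IsL 2 7 T → ∃ x ∈ lst, p ∉ x.1 ∧ Od x.2.1 x.2.2 T ∧ (x.2.1 = 6048 → IsU 3 3 T) := by
    intro h7 h
    refine ⟨([2, 7], 168, 336), by simp [lst], ?_, od_L (n := 2) (p := 7) (f := 1) (by norm_num) le_rfl le_rfl
      (by norm_num) (by simpa using h) (by decide) (by decide), by norm_num⟩
    simp only [List.mem_cons, List.not_mem_nil, or_false, not_or]
    refine ⟨?_, h7⟩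
    rintro rfl
    exact hL (lie_two_of_l27 h)
  have u42 : p ≠ 2 → p ≠ 3 → IsU 4 2 T → ∃ x ∈ lst, p ∉ x.1 ∧ Od x.2.1 x.2.2 T ∧ (x.2.1 = 6048 → IsU 3 3 T) :=
    fun h2 h3 h => ⟨([2, 3], 25920, 51840), by simp [lst], by simp [h2, h3], od_U (n := 4) (p := 2) (f := 1)
      (by norm_num) le_rfl (by norm_num) (by norm_num) (by simpa using h) (by decide) (by decide), by norm_num⟩
  have s62 : p ≠ 2 → IsS 3 2 T → ∃ x ∈ lst, p ∉ x.1 ∧ Od x.2.1 x.2.2 T ∧ (x.2.1 = 6048 → IsU 3 3 T) :=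
    fun h2 h => ⟨([2], 1451520, 1451520), by simp [lst], by simp [h2], od_S (n := 3) (p := 2) (f := 1)
      (by norm_num) le_rfl (by norm_num) (by norm_num) (by simpa using h) (by decide) (by decide), by norm_num⟩
  have op8 : p ≠ 2 → IsOP 4 2 T → ∃ x ∈ lst, p ∉ x.1 ∧ Od x.2.1 x.2.2 T ∧ (x.2.1 = 6048 → IsU 3 3 T) :=
    fun h2 h => ⟨([2], 174182400, 1045094400), by simp [lst], by simp [h2], od_OP (n := 4) (p := 2) (f := 1)
      (by norm_num) le_rfl (by norm_num) (by simpa using h) (by decide) (by decide), by norm_num⟩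
  rcases hc with hc | hc | hc | ⟨hp2, -, hc⟩ | hc
  · obtain ⟨n, h5, -, -, -, -, he⟩ := hc
    exact Or.inl ⟨n, h5, he⟩
  · refine Or.inr ?_
    rcases hc with ⟨q, hq, hpq, hqm, h⟩ | ⟨h3, -, h⟩ | ⟨h3, -, h⟩ | ⟨-, h12, -⟩ | ⟨h2, h3, -, h⟩ | ⟨h2, -, h⟩ |
      ⟨-, h12, -⟩ | ⟨h2, -, h⟩ | ⟨h2, -, h⟩
    · have hq' := hqm.trans hm
      simp only [Finset.mem_insert, Finset.mem_singleton] at hq
      rcases hq with rfl | rfl | rfl | rfl | rfl | rfl | rfl | rfl
      · exact l27 (by rintro rfl; exact hpq (dvd_refl 7)) h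
      · refine ⟨([2], 504, 1512), by simp [lst], ?_, od_L (n := 2) (p := 2) (f := 3) (by norm_num) (by norm_num) le_rfl
          (by norm_num) (by simpa using h) (by decide) (by decide), by norm_num⟩
        simp only [List.mem_cons, List.not_mem_nil, or_false]
        rintro rfl
        exact hpq (by norm_num)
      · refine ⟨([11], 660, 1320), by simp [lst], ?_, od_L (n := 2) (p := 11) (f := 1) (by norm_num) (by norm_num) le_rfl
          (by norm_num) (by simpa using h) (by decide) (by decide), by norm_num⟩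
        simp only [List.mem_cons, List.not_mem_nil, or_false]
        rintro rfl
        exact hpq (by norm_num)
      · refine ⟨([13], 1092, 2184), by simp [lst], ?_, od_L (n := 2) (p := 13) (f := 1) (by norm_num) (by norm_num) le_rfl
          (by norm_num) (by simpa using h) (by decide) (by decide), by norm_num⟩
        simp only [List.mem_cons, List.not_mem_nil, or_false]
        rintro rfl
        exact hpq (by norm_num)
      · refine ⟨([17], 2448, 4896), by simp [lst], ?_, od_L (n := 2) (p := 17) (f := 1) (by norm_num) (by norm_num) le_rfl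
          (by norm_num) (by simpa using h) (by decide) (by decide), by norm_num⟩
        simp only [List.mem_cons, List.not_mem_nil, or_false]
        rintro rfl
        exact hpq (by norm_num)
      · exact absurd hq' (by decide)
      · exact absurd hq' (by decide)
      · exact absurd hq' (by decide)
    · exact ⟨([3], 5616, 11232), by simp [lst], by simp [h3], od_L (n := 3) (p := 3) (f := 1)
        (by norm_num) le_rfl (by norm_num) (by norm_num) (by simpa using h) (by decide) (by decide), by norm_num⟩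
    · exact ⟨([3], 6048, 12096), by simp [lst], by simp [h3], od_U (n := 3) (p := 3) (f := 1)
        (by norm_num) le_rfl (by norm_num) (by norm_num) (by simpa using h) (by decide) (by decide), fun _ => h⟩
    · omega
    · exact u42 h2 h3 h
    · exact ⟨([2], 13685760, 27371520), by simp [lst], by simp [h2], od_U (n := 5) (p := 2) (f := 1)
        (by norm_num) le_rfl (by norm_num) (by norm_num) (by simpa using h) (by decide) (by decide), by norm_num⟩
    · omega
    · exact s62 h2 h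
    · exact op8 h2 h
  · refine Or.inr ?_
    rcases hc with ⟨h2, -, h | h | ⟨h3, h⟩ | h | h | h⟩ | ⟨h3, -, h⟩
    · by_cases h7 : p = 7
      · subst h7
        exact absurd (lie_of_isL (m := 2) (q := 7) hpp (dvd_refl 7) le_rfl (by norm_num) h) hL
      · exact l27 h7 h
    · exact ⟨([2], 20160, 241920), by simp [lst], by simp [h2], od_L (n := 3) (p := 2) (f := 2)
        (by norm_num) (by norm_num) (by norm_num) (by norm_num) (by simpa using h) (by decide) (by decide), by norm_num⟩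
    · exact u42 h2 h3 h
    · exact s62 h2 h
    · exact op8 h2 h
    · exact ⟨([2], 251596800, 503193600), by simp [lst], by simp [h2], od_G24 hna h, by norm_num⟩
    · exact ⟨([3], 3265920, 26127360), by simp [lst], by simp [h3], od_U (n := 4) (p := 3) (f := 1)
        (by norm_num) le_rfl (by norm_num) (by norm_num) (by simpa using h) (by decide) (by decide), by norm_num⟩
  · exact Or.inr ⟨([2], 29120, 87360), by simp [lst], by simp [hp2], od_Sz8 hna hc, by norm_num⟩
  · exfalso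
    apply hsp
    unfold IsSporadicGroup
    rcases hc with h | h | h | h | h | h | h | h | h <;> simp [h]

end Cfsg.Agent.H595.EPX
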