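import Cfsg.Agent.H595.EPX.U33

/-!
# S5745: two-point stabilisers for the socle `U₃(3)` (helper595)

`two_point` : `H` extremely primitive, socle `N ≅ U₃(3)`, `|H| ∣ 12096`: `H ∩ H^y` (`y ∉ H`) contains at least 8 elements
of order 3 or at least 48 elements of order 7. `bound` : the resulting inequality.
-/

set_option autoImplicit false
set_option linter.unusedSectionVars false

namespace Cfsg.Agent.H595.EPX

open MulAction Subgroup Cfsg.Agent.H284 Cfsg.Agent.H807.EPX Cfsg.Agent.H209.EPX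

variable {G : Type*} [Group G] [Finite G] {H N : Subgroup G} {T : Type} [Group T] {k : ℕ} {e : N ≃* (Fin k → T)}

/-- the unique Sylow `r`-subgroup of a two-point stabiliser -/
theorem unique_sylow (h : EP H) {y : G} (hy : y ∉ H) {r : ℕ} [Fact r.Prime]
    (h1 : Nat.card (Sylow r (H ⊓ cj y H : Subgroup G)) = 1) (hd : r ∣ Nat.card (H ⊓ cj y H : Subgroup G)) :
    ∃ R : Subgroup G, R ≤ H ⊓ cj y H ∧ R ≠ ⊥ ∧ IsPGroup r R ∧
      (∀ x ∈ H ⊓ cj y H, (∃ j : ℕ, x ^ r ^ j = 1) → x ∈ R) ∧
      ∀ g ∈ H, (∀ k ∈ R, g * k * g⁻¹ ∈ R) → g ∈ H ⊓ cj y H := by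
  obtain ⟨M, hM⟩ : ∃ M : Subgroup G, M = H ⊓ cj y H := ⟨_, rfl⟩
  rw [← hM] at h1 hd ⊢
  have hu : Subsingleton (Sylow r M) := (Nat.card_eq_one_iff_unique.1 h1).1
  obtain ⟨P⟩ : Nonempty (Sylow r M) := inferInstance
  have hPn : (P : Subgroup M).Normal := P.normal_of_subsingleton
  have hRM : (P : Subgroup M).map M.subtype ≤ M := by
    rintro _ ⟨x, _, rfl⟩
    exact x.2
  have hne : (P : Subgroup M).map M.subtype ≠ ⊥ := by
    rw [Ne, Subgroup.map_eq_bot_iff_of_injective _ M.subtype_injective]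
    intro h2
    have h3 : r ∣ Nat.card (P : Subgroup M) := P.dvd_card_of_dvd_card hd
    rw [h2, Subgroup.card_bot] at h3
    exact (Fact.out : r.Prime).one_lt.ne' (Nat.dvd_one.1 h3)
  have hnM : ∀ m ∈ M, ∀ k ∈ (P : Subgroup M).map M.subtype, m * k * m⁻¹ ∈ (P : Subgroup M).map M.subtype := by
    rintro m hm _ ⟨x, hx, rfl⟩
    exact ⟨⟨m, hm⟩ * x * ⟨m, hm⟩⁻¹, hPn.conj_mem x hx ⟨m, hm⟩, rfl⟩
  refine ⟨(P : Subgroup M).map M.subtype, hRM, hne, ?_, ?_, ?_⟩
  · exact P.isPGroup'.map M.subtype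
  · rintro x hx ⟨j, hj⟩
    have h2 : IsPGroup r (zpowers (⟨x, hx⟩ : M)) := by
      intro z
      obtain ⟨i, hi⟩ := mem_zpowers_iff.1 z.2
      refine ⟨j, Subtype.ext ?_⟩
      have h3 : (⟨x, hx⟩ : M) ^ r ^ j = 1 := Subtype.ext hj
      rw [coe_pow, ← hi, ← zpow_natCast, zpow_comm, zpow_natCast, h3, one_zpow, coe_one]
    obtain ⟨Q, hQ⟩ := h2.exists_le_sylow
    rw [Subsingleton.elim Q P] at hQ
    exact ⟨⟨x, hx⟩, hQ (mem_zpowers _), rfl⟩
  · intro g hg hgR
    subst hM
    exact mem_inf.2 ⟨hg, h.norm hy hRM hnM hne hg hgR⟩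

theorem card_rel (hle : N ≤ H) : Nat.card N * N.relIndex H = Nat.card H := by
  have h1 := (N.subgroupOf H).card_mul_index
  rwa [Nat.card_congr (subgroupOfEquivOfLe hle).toEquiv] at h1

/-- elements of odd order of `H` are in `N` -/
theorem mem_of_odd (hnrm : ∀ g ∈ H, ∀ k ∈ N, g * k * g⁻¹ ∈ N) (hi : N.relIndex H ∣ 2) {x : G} (hx : x ∈ H)
    {m : ℕ} (hm : Odd m) (hxm : x ^ m = 1) : x ∈ N := by
  have hn : (N.subgroupOf H).Normal := ⟨fun n hn g => hnrm g g.2 n hn⟩
  have h1 : (⟨x, hx⟩ : H) ^ 2 ∈ N.subgroupOf H := by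
    obtain ⟨c, hc⟩ := hi
    rw [hc, pow_mul]
    exact Subgroup.pow_mem _ (Subgroup.pow_index_mem (N.subgroupOf H) _) c
  have h2 : x ^ 2 ∈ N := h1
  obtain ⟨c, hc⟩ := hm
  have h3 : x = (x ^ 2)⁻¹ ^ c := by
    have h4 : x ^ (2 * c) * x = 1 := by rw [← pow_succ, ← hc, hxm]
    rw [inv_pow, ← pow_mul]
    exact (eq_inv_of_mul_eq_one_right h4)
  rw [h3]
  exact N.pow_mem (N.inv_mem h2) c

/-- no two-point stabiliser is a `2`-group -/
theorem not_two_group (h : EPS H N e) (hN : UF N) {y : G} (hy : y ∉ H) : ¬ IsPGroup 2 (H ⊓ cj y H : Subgroup G) := by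
  intro hp
  obtain ⟨t, s, ht2, ht1, hs3, hs1, hst, h96⟩ := hN.inv
  have hX := EPS.pgroup_crit h Nat.prime_two hy hp (X := (centralizer ({t} : Set N)).map N.subtype) ?_ ?_ ?_ ?_
  · have h1 : (s : G) ∈ (centralizer ({t} : Set N)).map N.subtype :=
      ⟨s, mem_centralizer_singleton_iff.2 hst, rfl⟩
    obtain ⟨j, hj⟩ := hX ⟨s, h1⟩
    have h2 : (s : G) ^ 2 ^ j = 1 := congrArg Subtype.val hj
    have h3 : s ^ 2 ^ j = 1 := Subtype.ext h2
    have h4 : orderOf s = 3 := by
      have := Fact.mk Nat.prime_three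
      exact orderOf_eq_prime hs3 hs1
    have h5 : 3 ∣ 2 ^ j := by rw [← h4]; exact orderOf_dvd_of_pow_eq_one h3
    have h6 := Nat.prime_three.dvd_of_dvd_pow h5
    omega
  · rintro _ ⟨x, _, rfl⟩
    exact x.2
  · intro hE
    apply ht1
    apply Subtype.ext
    have h1 : (t : G) ∈ centralizer (N : Set G) := by
      rw [mem_centralizer_iff]
      intro n hn
      have h2 : n ∈ (centralizer ({t} : Set N)).map N.subtype := by rw [hE]; exact hn
      obtain ⟨m, hm, hmn⟩ := h2
      rw [← hmn]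
      have h3 := mem_centralizer_singleton_iff.1 hm
      exact congrArg Subtype.val h3
    rw [h.cent, mem_bot] at h1
    exact h1
  · have h1 : ((centralizer ({t} : Set N)).map N.subtype).relIndex N = (centralizer ({t} : Set N)).index := by
      show (((centralizer ({t} : Set N)).map N.subtype).subgroupOf N).index = _
      congr 1
      exact Subgroup.comap_map_eq_self_of_injective N.subtype_injective _
    rw [h1]
    intro h2
    have h3 := (centralizer ({t} : Set N)).card_mul_index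
    rw [hN.card] at h3
    obtain ⟨a, ha⟩ := h96
    obtain ⟨b, hb⟩ := h2
    rw [ha, hb] at h3
    have h4 : 192 * (a * b) = 6048 := by rw [← h3]; ring
    omega
  · intro g hg
    have h1 : g * t * g⁻¹ ∈ N := h.nrm g hg t t.2
    obtain ⟨c, hc⟩ := isConj_iff.1 (hN.one t ⟨g * t * g⁻¹, h1⟩ ht2 ht1 (by
      apply Subtype.ext
      show g * t * g⁻¹ * (g * t * g⁻¹) = 1
      have h2 : (t : G) * t = 1 := congrArg Subtype.val ht2
      calc g * t * g⁻¹ * (g * t * g⁻¹) = g * (t * t) * g⁻¹ := by group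
        _ = 1 := by rw [h2]; group) (by
      intro h2
      apply ht1
      apply Subtype.ext
      have h3 : g * (t : G) * g⁻¹ = 1 := congrArg Subtype.val h2
      have h4 : (t : G) = g⁻¹ * (g * t * g⁻¹) * g := by group
      rw [h4, h3]
      show g⁻¹ * 1 * g = 1
      group))
    have hc' : (c : G) * t * (c : G)⁻¹ = g * t * g⁻¹ := congrArg Subtype.val hc
    refine ⟨c, c.2, ?_⟩
    have key : ∀ a : G, a ∈ H → ∀ z : G, z ∈ cj a ((centralizer ({t} : Set N)).map N.subtype) ↔
        z ∈ N ∧ z * (a * t * a⁻¹) = a * t * a⁻¹ * z := by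
      intro a ha z
      rw [mem_cj]
      constructor
      · rintro ⟨w, hw, hwz⟩
        have h2 : (w : G) = a⁻¹ * z * a := hwz
        have h3 : (w : G) * t = t * w := congrArg Subtype.val (mem_centralizer_singleton_iff.1 hw)
        have h4 : z = a * w * a⁻¹ := by rw [h2]; group
        refine ⟨by rw [h4]; exact h.nrm a ha w w.2, ?_⟩
        rw [h4]
        calc a * (w : G) * a⁻¹ * (a * t * a⁻¹) = a * (w * t) * a⁻¹ := by group
          _ = a * (t * w) * a⁻¹ := by rw [h3]
          _ = a * t * a⁻¹ * (a * w * a⁻¹) := by group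
      · rintro ⟨h2, h3⟩
        have h4 : a⁻¹ * z * a ∈ N := by
          have := h.nrm a⁻¹ (H.inv_mem ha) z h2
          rwa [inv_inv] at this
        refine ⟨⟨a⁻¹ * z * a, h4⟩, ?_, rfl⟩
        rw [SetLike.mem_coe, mem_centralizer_singleton_iff]
        apply Subtype.ext
        show a⁻¹ * z * a * t = t * (a⁻¹ * z * a)
        calc a⁻¹ * z * a * t = a⁻¹ * (z * (a * t * a⁻¹)) * a := by group
          _ = a⁻¹ * (a * t * a⁻¹ * z) * a := by rw [h3]
          _ = t * (a⁻¹ * z * a) := by group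
    ext z
    rw [key g hg, key c (h.le c.2), hc']

/-- **Two-point stabilisers.** -/
theorem two_point (h : EPS H N e) (hN : UF N) (hH : Nat.card H ∣ 12096) {y : G} (hy : y ∉ H) :
    8 ≤ Nat.card {x : (H ⊓ cj y H : Subgroup G) // orderOf x = 3} ∨
      48 ≤ Nat.card {x : (H ⊓ cj y H : Subgroup G) // orderOf x = 7} := by
  classical
  have h3p : Fact (Nat.Prime 3) := ⟨Nat.prime_three⟩
  have h7p : Fact (Nat.Prime 7) := ⟨by norm_num⟩
  have hidx : N.relIndex H ∣ 2 := by
    have h1 := card_rel h.le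
    rw [← h1, hN.card] at hH
    obtain ⟨c, hc⟩ := hH
    exact ⟨c, by
      have h2 : 6048 * 2 = 6048 * (N.relIndex H * c) := by rw [← mul_assoc]; omega
      exact Nat.eq_of_mul_eq_mul_left (by norm_num) h2⟩
  have hodd : ∀ x ∈ H, ∀ m : ℕ, Odd m → x ^ m = 1 → x ∈ N := fun x hx m hm hxm =>
    mem_of_odd h.nrm hidx hx hm hxm
  have he3 : ∀ x ∈ H, ∀ j : ℕ, x ^ 3 ^ j = 1 → x ^ 3 = 1 := by
    intro x hx j hj
    have h1 := hodd x hx _ (Odd.pow (by decide)) hj
    have h2 := hN.e3 ⟨x, h1⟩ j (Subtype.ext hj)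
    exact congrArg Subtype.val h2
  obtain ⟨r, ⟨hr, hr2⟩, hrd⟩ := exists_prime_of_not_isPGroup (not_two_group h hN hy) Nat.prime_two
  have hMH : Nat.card (H ⊓ cj y H : Subgroup G) ∣ 12096 := (Subgroup.card_dvd_of_le inf_le_left).trans hH
  have hr37 : r = 3 ∨ r = 7 := by
    have h1 : r ∣ 2 ^ 6 * (3 ^ 3 * 7) := by
      have := hrd.trans hMH
      norm_num at this ⊢
      exact this
    rcases hr.dvd_mul.1 h1 with h2 | h2
    · exact absurd ((Nat.prime_dvd_prime_iff_eq hr Nat.prime_two).1 (hr.dvd_of_dvd_pow h2)) hr2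
    · rcases hr.dvd_mul.1 h2 with h3 | h3
      · exact Or.inl ((Nat.prime_dvd_prime_iff_eq hr Nat.prime_three).1 (hr.dvd_of_dvd_pow h3))
      · exact Or.inr ((Nat.prime_dvd_prime_iff_eq hr (by norm_num)).1 h3)
  by_cases h3 : 3 ∣ Nat.card (H ⊓ cj y H : Subgroup G)
  · left
    by_cases h9 : ∃ P : Sylow 3 (H ⊓ cj y H : Subgroup G), 9 ≤ Nat.card P
    · obtain ⟨P, hP⟩ := h9
      have h8 : Nat.card {u : P // u = 1} = 1 := by
        rw [Nat.card_eq_one_iff_unique]
        exact ⟨⟨fun a b => Subtype.ext (a.2.trans b.2.symm)⟩, ⟨⟨1, rfl⟩⟩⟩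
      have h10 : Nat.card P = Nat.card {u : P // u = 1} + Nat.card {u : P // u ≠ 1} := by
        rw [← Nat.card_sum]
        exact Nat.card_congr (Equiv.sumCompl (fun u : P => u = 1)).symm
      have h11 : Nat.card {u : P // u ≠ 1} ≤ Nat.card {x : (H ⊓ cj y H : Subgroup G) // orderOf x = 3} := by
        refine Nat.card_le_card_of_injective (fun u => ⟨(u.1 : (H ⊓ cj y H : Subgroup G)), ?_⟩) ?_
        · obtain ⟨j, hj⟩ := P.isPGroup' u.1
          have h12 : ((u.1 : (H ⊓ cj y H : Subgroup G)) : G) ^ 3 ^ j = 1 := by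
            have h13 : ((u.1 : (H ⊓ cj y H : Subgroup G))) ^ 3 ^ j = 1 := congrArg Subtype.val hj
            exact congrArg Subtype.val h13
          have h14 := he3 _ (mem_inf.1 (u.1 : (H ⊓ cj y H : Subgroup G)).2).1 j h12
          refine orderOf_eq_prime (Subtype.ext h14) ?_
          intro h15
          exact u.2 (Subtype.ext h15)
        · intro u v huv
          have h16 : (u.1 : (H ⊓ cj y H : Subgroup G)) = v.1 :=
            congrArg (fun z : {x : (H ⊓ cj y H : Subgroup G) // orderOf x = 3} => z.1) huv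
          exact Subtype.ext (Subtype.ext h16)
      omega
    · push Not at h9
      have hc3 : ∀ P : Sylow 3 (H ⊓ cj y H : Subgroup G), Nat.card P = 3 := by
        intro P
        obtain ⟨j, hj⟩ := IsPGroup.iff_card.1 P.isPGroup'
        have h4 := h9 P
        have h5 : 3 ∣ Nat.card P := P.dvd_card_of_dvd_card h3
        rw [hj] at h4 h5 ⊢
        have h6 : j < 2 := by
          by_contra hcon
          push Not at hcon
          have := Nat.pow_le_pow_right (show 0 < 3 by norm_num) hcon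
          omega
        interval_cases j
        · omega
        · norm_num
      have h4 := le_card_ord hc3
      have h5 := card_sylow_modEq_one 3 (H ⊓ cj y H : Subgroup G)
      have h6 : Nat.card (Sylow 3 (H ⊓ cj y H : Subgroup G)) ≠ 1 := by
        intro h7
        obtain ⟨R, hRM, hRne, hRp, hRu, hRn⟩ := unique_sylow h.ep hy h7 h3
        have hRH : R ≤ H := hRM.trans inf_le_left
        have hRp' : IsPGroup 3 (R.subgroupOf H) := hRp.of_equiv (subgroupOfEquivOfLe hRH).symm
        obtain ⟨S, hS⟩ := hRp'.exists_le_sylow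
        have hScard : Nat.card S = 27 := by
          rw [S.card_eq_multiplicity]
          have h8 : Nat.card H = 6048 ∨ Nat.card H = 12096 := by
            have h1 := card_rel h.le
            rw [hN.card] at h1
            have h2 := Nat.le_of_dvd (by norm_num) hidx
            have h3 : N.relIndex H ≠ 0 := by
              intro h0
              rw [h0] at h1
              have := Nat.card_pos (α := H)
              omega
            rw [← h1]
            have : N.relIndex H = 1 ∨ N.relIndex H = 2 := by omega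
            rcases this with h4 | h4 <;> rw [h4] <;> norm_num
          have h9 : (Nat.card H).factorization 3 = 3 := by
            rcases h8 with h8 | h8
            · rw [h8, Nat.factorization_def _ Nat.prime_three, show (6048 : ℕ) = 3 ^ 3 * 224 by norm_num,
                padicValNat.mul (by norm_num) (by norm_num), padicValNat.prime_pow,
                padicValNat.eq_zero_of_not_dvd (by norm_num)]
            · rw [h8, Nat.factorization_def _ Nat.prime_three, show (12096 : ℕ) = 3 ^ 3 * 448 by norm_num,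
                padicValNat.mul (by norm_num) (by norm_num), padicValNat.prime_pow,
                padicValNat.eq_zero_of_not_dvd (by norm_num)]
          rw [h9]; norm_num
        have hRcard : Nat.card R ≤ 3 := by
          have h8 : Nat.card R = Nat.card (R.subgroupOf (H ⊓ cj y H)) :=
            (Nat.card_congr (subgroupOfEquivOfLe hRM).toEquiv).symm
          have h9 : IsPGroup 3 (R.subgroupOf (H ⊓ cj y H)) := hRp.of_equiv (subgroupOfEquivOfLe hRM).symm
          obtain ⟨Q, hQ⟩ := h9.exists_le_sylow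
          rw [h8, ← hc3 Q]
          exact Subgroup.card_le_of_le hQ
        -- the normaliser grows
        have hnil : Group.IsNilpotent S := S.isPGroup'.isNilpotent
        have hlt : (R.subgroupOf H).subgroupOf (S : Subgroup H) < ⊤ := by
          rw [lt_top_iff_ne_top]
          intro h8
          have h9 : (S : Subgroup H) ≤ R.subgroupOf H := Subgroup.subgroupOf_eq_top.1 h8
          have h10 := Subgroup.card_le_of_le h9
          rw [hScard, Nat.card_congr (subgroupOfEquivOfLe hRH).toEquiv] at h10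
          omega
        have hgr := Group.normalizerCondition_of_isNilpotent _ hlt
        obtain ⟨g, hg1, hg2⟩ := SetLike.exists_of_lt hgr
        have hgR : ∀ k ∈ R, ((g : H) : G) * k * ((g : H) : G)⁻¹ ∈ R := by
          intro k hk
          have h8 := (Subgroup.mem_normalizer_iff.1 hg1 ⟨⟨k, hRH hk⟩, hS (show (⟨k, hRH hk⟩ : H) ∈ R.subgroupOf H from hk)⟩).1 hk
          exact h8
        have h8 := hRn _ (g : H).2 hgR
        obtain ⟨j, hj⟩ := S.isPGroup' g
        have h9 := hRu _ h8 ⟨j, by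
          have h10 : (g : H) ^ 3 ^ j = 1 := congrArg Subtype.val hj
          exact congrArg Subtype.val h10⟩
        exact hg2 h9
      have h7 : Nat.card (Sylow 3 (H ⊓ cj y H : Subgroup G)) % 3 = 1 := h5
      omega
  · right
    have h7 : 7 ∣ Nat.card (H ⊓ cj y H : Subgroup G) := by
      rcases hr37 with rfl | rfl
      · exact absurd hrd h3
      · exact hrd
    have hc7 : ∀ P : Sylow 7 (H ⊓ cj y H : Subgroup G), Nat.card P = 7 := by
      intro P
      obtain ⟨j, hj⟩ := IsPGroup.iff_card.1 P.isPGroup'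
      have h5 : 7 ∣ Nat.card P := P.dvd_card_of_dvd_card h7
      have h6 : Nat.card P ∣ 12096 := (Subgroup.card_subgroup_dvd_card _).trans hMH
      rw [hj] at h5 h6 ⊢
      have h8 : j < 2 := by
        by_contra hcon
        push Not at hcon
        have h9 : 7 ^ 2 ∣ 12096 := (pow_dvd_pow 7 hcon).trans h6
        norm_num at h9
      interval_cases j
      · norm_num at h5
      · norm_num
    have h4 := le_card_ord hc7
    have h5 := card_sylow_modEq_one 7 (H ⊓ cj y H : Subgroup G)
    have h6 : Nat.card (Sylow 7 (H ⊓ cj y H : Subgroup G)) ≠ 1 := by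
      intro h8
      obtain ⟨R, hRM, hRne, hRp, hRu, hRn⟩ := unique_sylow h.ep hy h8 h7
      have hRN : R ≤ N := by
        intro x hx
        obtain ⟨j, hj⟩ := hRp ⟨x, hx⟩
        exact hodd x (mem_inf.1 (hRM hx)).1 _ (Odd.pow (by decide)) (congrArg Subtype.val hj)
      have hRp' : IsPGroup 7 (R.subgroupOf N) := hRp.of_equiv (subgroupOfEquivOfLe hRN).symm
      obtain ⟨S, hS⟩ := hRp'.exists_le_sylow
      obtain ⟨hS7, s, hs3, hsn⟩ := (seven hN.card).2 S
      have h9 : Nat.card (R.subgroupOf N) = 7 := by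
        have h10 : Nat.card (R.subgroupOf N) ∣ 7 := by
          rw [← hS7]
          exact Subgroup.card_dvd_of_le hS
        rcases (Nat.dvd_prime (by norm_num)).1 h10 with h11 | h11
        · exfalso
          apply hRne
          rw [Nat.card_congr (subgroupOfEquivOfLe hRN).toEquiv] at h11
          exact Subgroup.card_eq_one.1 h11
        · exact h11
      have h10 : R.subgroupOf N = (S : Subgroup N) := Subgroup.eq_of_le_of_card_ge hS (by rw [h9, hS7])
      have h11 := hRn s (h.le s.2) (by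
        intro k hk
        have h12 : (⟨k, hRN hk⟩ : N) ∈ (S : Subgroup N) := by rw [← h10]; exact hk
        have h13 : s * ⟨k, hRN hk⟩ * s⁻¹ ∈ (S : Subgroup N) := hsn _ h12
        rw [← h10] at h13
        exact h13)
      apply h3
      have h12 : orderOf (⟨s, h11⟩ : (H ⊓ cj y H : Subgroup G)) = 3 := by
        rw [← Subgroup.orderOf_coe]
        show orderOf (s : G) = 3
        rw [Subgroup.orderOf_coe]
        exact hs3
      rw [← h12]
      exact _root_.orderOf_dvd_natCard _
    have h8 : Nat.card (Sylow 7 (H ⊓ cj y H : Subgroup G)) % 7 = 1 := h5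
    omega

theorem ncard_ord (h : EPS H N e) (hN : UF N) (hH : Nat.card H ∣ 12096) {r m : ℕ} (hr : Odd r)
    (hm : Nat.card {x : N // orderOf x = r} ≤ m) : {x : G | x ∈ H ∧ orderOf x = r}.ncard ≤ m := by
  have hidx : N.relIndex H ∣ 2 := by
    have h1 := card_rel h.le
    rw [← h1, hN.card] at hH
    obtain ⟨c, hc⟩ := hH
    exact ⟨c, by
      have h2 : 6048 * 2 = 6048 * (N.relIndex H * c) := by rw [← mul_assoc]; omega
      exact Nat.eq_of_mul_eq_mul_left (by norm_num) h2⟩
  refine le_trans ?_ hm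
  rw [← Nat.card_coe_set_eq]
  refine Nat.card_le_card_of_injective (fun x : {x : G | x ∈ H ∧ orderOf x = r} => (⟨⟨x.1,
    mem_of_odd h.nrm hidx x.2.1 hr (by have := pow_orderOf_eq_one x.1; rwa [x.2.2] at this)⟩, by
      rw [← Subgroup.orderOf_coe]; exact x.2.2⟩ : {x : N // orderOf x = r})) ?_
  intro u v huv
  have h1 := congrArg (fun z : {x : N // orderOf x = r} => ((z.1 : N) : G)) huv
  exact Subtype.ext h1

/-- **The inequality.** -/
theorem bound (h : EPS H N e) (hN : UF N) (hH : Nat.card H ∣ 12096) {z3 z7 : ℕ}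
    (hz3 : ∀ x : G, orderOf x = 3 → Nat.card (centralizer {x}) ≤ z3)
    (hz7 : ∀ x : G, orderOf x = 7 → Nat.card (centralizer {x}) ≤ z7) :
    48 * (H.index - 1) ≤ 728 * (6 * (z3 * 728 / Nat.card H - 1)) + 1728 * (z7 * 1728 / Nat.card H - 1) := by
  classical
  have h7p : Fact (Nat.Prime 7) := ⟨by norm_num⟩
  set P3 := (Set.toFinite {x : G | x ∈ H ∧ orderOf x = 3}).toFinset with hP3
  set P7 := (Set.toFinite {x : G | x ∈ H ∧ orderOf x = 7}).toFinset with hP7
  have m3 : ∀ x, x ∈ P3 ↔ x ∈ H ∧ orderOf x = 3 := fun x => by rw [hP3, Set.Finite.mem_toFinset]; rfl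
  have m7 : ∀ x, x ∈ P7 ↔ x ∈ H ∧ orderOf x = 7 := fun x => by rw [hP7, Set.Finite.mem_toFinset]; rfl
  have c3 : {x : G | x ∈ H ∧ orderOf x = 3}.ncard ≤ 728 := ncard_ord h hN hH (by decide) hN.c3
  have c7 : {x : G | x ∈ H ∧ orderOf x = 7}.ncard ≤ 1728 := ncard_ord h hN hH (by decide) (seven hN.card).1
  have c3' : P3.card ≤ 728 := by rwa [hP3, ← Set.ncard_eq_toFinset_card]
  have c7' : P7.card ≤ 1728 := by rwa [hP7, ← Set.ncard_eq_toFinset_card]
  have hdis : Disjoint P3 P7 := by
    rw [Finset.disjoint_left]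
    intro x hx hx'
    have h1 := ((m3 x).1 hx).2
    have h2 := ((m7 x).1 hx').2
    omega
  have hw := weighted (H := H) (P3 ∪ P7) (by
    intro x hx
    rcases Finset.mem_union.1 hx with h1 | h1
    · exact ((m3 x).1 h1).1
    · exact ((m7 x).1 h1).1) (fun x => if orderOf x = 3 then 6 else 1) 48 (by
    intro y hy
    have key : ∀ r : ℕ, Nat.card {x : (H ⊓ cj y H : Subgroup G) // orderOf x = r} =
        ((Set.toFinite {x : G | x ∈ H ⊓ cj y H ∧ orderOf x = r}).toFinset).card := by
      intro r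
      rw [← Set.ncard_eq_toFinset_card, ← Nat.card_coe_set_eq]
      refine Nat.card_congr ⟨fun x => ⟨x.1, x.1.2, by rw [Subgroup.orderOf_coe]; exact x.2⟩,
        fun x => ⟨⟨x.1, x.2.1⟩, by rw [← Subgroup.orderOf_coe]; exact x.2.2⟩, fun _ => rfl, fun _ => rfl⟩
    rcases two_point h hN hH hy with h1 | h1
    · refine ⟨(Set.toFinite {x : G | x ∈ H ⊓ cj y H ∧ orderOf x = 3}).toFinset, ?_, ?_⟩
      · intro x hx
        rw [Set.Finite.mem_toFinset] at hx
        exact ⟨Finset.mem_union_left _ ((m3 x).2 ⟨(mem_inf.1 hx.1).1, hx.2⟩), (mem_inf.1 hx.1).2⟩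
      · rw [key] at h1
        rw [Finset.sum_congr rfl (g := fun _ => 6) (fun x hx => by
          rw [Set.Finite.mem_toFinset] at hx
          rw [if_pos hx.2]), Finset.sum_const, smul_eq_mul]
        omega
    · refine ⟨(Set.toFinite {x : G | x ∈ H ⊓ cj y H ∧ orderOf x = 7}).toFinset, ?_, ?_⟩
      · intro x hx
        rw [Set.Finite.mem_toFinset] at hx
        exact ⟨Finset.mem_union_right _ ((m7 x).2 ⟨(mem_inf.1 hx.1).1, hx.2⟩), (mem_inf.1 hx.1).2⟩
      · rw [key] at h1
        rw [Finset.sum_congr rfl (g := fun _ => 1) (fun x hx => by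
          rw [Set.Finite.mem_toFinset] at hx
          rw [if_neg (by rw [hx.2]; norm_num)]), Finset.sum_const, smul_eq_mul]
        omega)
  have hHp : 0 < Nat.card H := Nat.card_pos
  have f3 : ∀ x ∈ P3, (if orderOf x = 3 then 6 else 1) * (Fx H x - 1) ≤ 6 * (z3 * 728 / Nat.card H - 1) := by
    intro x hx
    obtain ⟨hxH, hx3⟩ := (m3 x).1 hx
    rw [if_pos hx3]
    refine Nat.mul_le_mul_left _ (Nat.sub_le_sub_right ?_ 1)
    rw [Nat.le_div_iff_mul_le hHp, Fx_mul]
    refine Nat.mul_le_mul (hz3 x hx3) ((Sec_le x).trans ?_)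
    rw [hx3]
    exact c3
  have f7 : ∀ x ∈ P7, (if orderOf x = 3 then 6 else 1) * (Fx H x - 1) ≤ z7 * 1728 / Nat.card H - 1 := by
    intro x hx
    obtain ⟨hxH, hx7⟩ := (m7 x).1 hx
    rw [if_neg (by rw [hx7]; norm_num), one_mul]
    refine Nat.sub_le_sub_right ?_ 1
    rw [Nat.le_div_iff_mul_le hHp, Fx_mul]
    refine Nat.mul_le_mul (hz7 x hx7) ((Sec_le x).trans ?_)
    rw [hx7]
    exact c7
  rw [Finset.sum_union hdis] at hw
  refine hw.trans (Nat.add_le_add ?_ ?_)
  · refine (Finset.sum_le_card_nsmul _ _ _ f3).trans ?_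
    rw [smul_eq_mul]
    exact Nat.mul_le_mul_right _ c3'
  · refine (Finset.sum_le_card_nsmul _ _ _ f7).trans ?_
    rw [smul_eq_mul]
    exact Nat.mul_le_mul_right _ c7'

/-- `|H|` divides `|Aut N|` -/
theorem card_dvd_aut (h : EPS H N e) : Nat.card H ∣ Nat.card (MulAut N) := by
  let f : H →* MulAut N :=
    { toFun := fun g =>
        { toFun := fun n => ⟨g * n * (g : G)⁻¹, h.nrm g g.2 n n.2⟩
          invFun := fun n => ⟨(g : G)⁻¹ * n * g, by
            have := h.nrm (g : G)⁻¹ (H.inv_mem g.2) n n.2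
            rwa [inv_inv] at this⟩
          left_inv := fun n => Subtype.ext (by simp [mul_assoc])
          right_inv := fun n => Subtype.ext (by simp [mul_assoc])
          map_mul' := fun a b => Subtype.ext (by simp [mul_assoc]) }
      map_one' := by
        ext n
        simp
      map_mul' := fun a b => by
        ext n
        simp [mul_assoc] }
  have hf : Function.Injective f := by
    rw [injective_iff_map_eq_one]
    intro g hg
    have h1 : (g : G) ∈ centralizer (N : Set G) := by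
      rw [mem_centralizer_iff]
      intro n hn
      have h2 : f g ⟨n, hn⟩ = ⟨n, hn⟩ := by rw [hg]; rfl
      have h3 : (g : G) * n * (g : G)⁻¹ = n := congrArg Subtype.val h2
      rw [mul_inv_eq_iff_eq_mul] at h3
      exact h3.symm
    rw [h.cent, mem_bot] at h1
    exact Subtype.ext h1
  exact Subgroup.card_dvd_of_injective f hf

/-- **`U₃(3)` in a group of order `211341312`.** -/
theorem kill (h : EPS H N e) {F : Type*} [Field F] [Fintype F] (hF : Fintype.card F = 9) (eN : Cfsg.PSU 3 F 3 ≃* N)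
    (hG : Nat.card G = 211341312)
    (hz3 : ∀ x : G, orderOf x = 3 → Nat.card (centralizer {x}) ≤ 1944)
    (hz7 : ∀ x : G, orderOf x = 7 → Nat.card (centralizer {x}) ≤ 1176) : False := by
  have hN : UF N := (uf_psu hF).congr eN
  have hH : Nat.card H ∣ 12096 := by
    have h1 := card_dvd_aut h
    rwa [← Nat.card_congr (MulAut.congr eN).toEquiv, Cfsg.Agent.H933.HT.u33_aut (by rw [hF]; norm_num)] at h1
  have h1 := bound h hN hH hz3 hz7
  have h2 := card_rel h.le
  rw [hN.card] at h2
  have h3 := H.card_mul_index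
  rw [hG] at h3
  obtain ⟨c, hc⟩ := hH
  have h4 : N.relIndex H * c = 2 := by
    have h5 : 6048 * (N.relIndex H * c) = 6048 * 2 := by rw [← mul_assoc, h2, ← hc]
    exact Nat.eq_of_mul_eq_mul_left (by norm_num) h5
  have h5 : N.relIndex H ∣ 2 := ⟨c, h4.symm⟩
  rcases (Nat.dvd_prime Nat.prime_two).1 h5 with h6 | h6
  · rw [h6] at h2
    rw [← h2] at h1 h3
    have h7 : H.index = 34944 := by omega
    rw [h7] at h1
    norm_num at h1
  · rw [h6] at h2
    rw [← h2] at h1 h3
    have h7 : H.index = 17472 := by omega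
    rw [h7] at h1
    norm_num at h1

end Cfsg.Agent.H595.EPX
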