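import Cfsg.Agent.H595.EPX.Cand8
import Cfsg.Agent.H595.EPX.Aut8
import Cfsg.Agent.H595.EPX.TD42
import Cfsg.Agent.H595.EPX.U33Kill
import Cfsg.Agent.H476.EPX.TD4Fin
import Cfsg.Agent.H59.EP.UBGen
import Cfsg.Agent.H226.EX.Glue
import Cfsg.Agent.H252.EN.Tab
import Cfsg.Agent.H542.EPX.Cells
import Cfsg.Agent.S2660
import Cfsg.Agent.S1067
import Cfsg.Agent.S0000

/-!
# S5745: `³D₄(q)`, socles of other characteristic (helper595)

`card_le_UB` : `|G| ≤ UB B` for `|H| ∣ B`. `cross` : the cell `td4.cross`.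
-/

set_option autoImplicit false
set_option linter.unusedSectionVars false

namespace Cfsg.Agent.H595.EPX

open MulAction Subgroup Cfsg Cfsg.Agent.H284 Cfsg.Agent.H209.EPX Cfsg.Agent.H252.EN Cfsg.Agent.H912.Bd
  Cfsg.Agent.H912.Five

/-- the bound if `|H|` divides `B` (the proof of helper252) -/
theorem card_le_UB (hg : Cfsg.Agent.H59.EP.TwoGen.{0}) {G : Type} [Group G] [Finite G] [IsSimpleGroup G]
    {H N : Subgroup G} {T : Type} [Group T] {k : ℕ} {e : N ≃* (Fin k → T)} (h : EPS H N e) {B : ℕ}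
    (hd : Nat.card H ∣ B) (hB : good B = true) : Nat.card G ≤ UB B := by
  have hub : Ub B (Nat.card G) := by
    intro l h1 h2 hB hlt
    have h3 : Nat.card H ∣ (l.map fun x => x.1 ^ x.2).prod := by rwa [hB]
    have h3' := Cfsg.Agent.H59.EP.EPT.ncard_le_gen_dvd (Cfsg.Agent.H226.EX.ept_of_eps h) hg
      (Cfsg.Agent.H226.EX.hab_of_eps h) l h1 h2 h3 (by rwa [hB])
    have h4 := Cfsg.Agent.H59.EP.index_le_of h3' (Cfsg.Agent.H173.EP.ub1 inferInstance
      (Cfsg.Agent.H226.EX.ept_of_eps h) (by norm_num)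
      fun _ hx => Cfsg.Agent.H59.EP.EPT.six_le (Cfsg.Agent.H226.EX.ept_of_eps h) (Cfsg.Agent.H226.EX.hab_of_eps h) hx)
      le_rfl
    rw [hB] at h4
    have hB0 : 0 < B := by
      obtain ⟨_, i2, _⟩ := Cfsg.Agent.H59.EP.galSum_list l h1 h2
      rw [hB] at i2
      omega
    have h5 : Nat.card H ≤ B := Nat.le_of_dvd hB0 hd
    rw [← H.index_mul_card, ubl]
    refine Nat.mul_le_mul (h4.trans (Nat.add_le_add_left (Nat.mul_le_mul_left _ ?_) 1)) h5
    exact Nat.mul_le_mul_left 2 (Nat.div_le_div_right h5)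
  exact hub.le hB

/-! ### Numbers -/

/-- the order of `³D₄(q)` -/
def gq (q : ℕ) : ℕ := q ^ 12 * (q ^ 2 - 1) * (q ^ 6 - 1) * (q ^ 8 + q ^ 4 + 1)

/-- dead by Lagrange or by the bound -/
def tst (q t a : ℕ) : Bool :=
  gq q % t != 0 || (good (Nat.gcd a (gq q)) && Nat.blt (UB (Nat.gcd a (gq q))) (gq q))

/-- dead by the bound, with a lower bound for the order -/
def big (a : ℕ) : Bool := good a && Nat.blt (UB a) (gq 31)

/-- the list and `A₅`, `A₆`, `A₇` -/
def lst' : List (List ℕ × ℕ × ℕ) := ([], 60, 120) :: ([], 360, 1440) :: ([], 2520, 5040) :: lst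

theorem big_all : (lst'.all fun x => big x.2.2) = true := by decide +kernel

theorem tst_all : ((List.range 31).all fun q => Nat.blt q 2 || q == 10 || lst'.all fun x =>
    x.1.any (fun p => q % p == 0) || tst q x.2.1 x.2.2 ||
      (q == 2 && (x.2.1 == 1092 || x.2.1 == 5616 || x.2.1 == 6048))) = true := by decide +kernel

theorem gq_mono {a b : ℕ} (h : a ≤ b) : gq a ≤ gq b := by
  have k : ∀ n : ℕ, a ^ n ≤ b ^ n := fun n => Nat.pow_le_pow_left h n
  exact Nat.mul_le_mul (Nat.mul_le_mul (Nat.mul_le_mul (k 12) (Nat.sub_le_sub_right (k 2) 1))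
    (Nat.sub_le_sub_right (k 6) 1)) (Nat.add_le_add_right (Nat.add_le_add (k 8) (k 4)) 1)

theorem lst'_prime : ∀ x ∈ lst', ∀ p ∈ x.1, p.Prime := by
  intro x hx p hp
  simp only [lst', lst, List.mem_cons, List.not_mem_nil, or_false] at hx
  rcases hx with rfl | rfl | rfl | rfl | rfl | rfl | rfl | rfl | rfl | rfl | rfl | rfl | rfl | rfl | rfl | rfl | rfl | rfl <;>
    simp only [List.mem_cons, List.not_mem_nil, or_false] at hp <;>
    first
    | exact hp.elim
    | (subst hp; norm_num)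
    | (rcases hp with rfl | rfl <;> norm_num)

section

variable {G : Type} [Group G] [Finite G] [IsSimpleGroup G] {H N : Subgroup G} {T : Type} [Group T]
  {e : N ≃* (Fin 1 → T)}

/-- **The numerical elimination.** -/
theorem elim (hg : Cfsg.Agent.H59.EP.TwoGen.{0}) (h : EPS H N e) {p f : ℕ} (hp : p.Prime) (hf : 1 ≤ f) (hG : Nat.card G = gq (p ^ f)) {x : List ℕ × ℕ × ℕ}
    (hx : x ∈ lst') (hpx : p ∉ x.1) (ht : Od x.2.1 x.2.2 T) :
    p ^ f = 2 ∧ (x.2.1 = 1092 ∨ x.2.1 = 5616 ∨ x.2.1 = 6048) := by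
  have eN : N ≃* T := e.trans (MulEquiv.funUnique (Fin 1) T)
  have hH : Nat.card H ∣ x.2.2 := by
    have h1 := card_dvd_aut h
    rw [Nat.card_congr (MulAut.congr eN).toEquiv] at h1
    exact h1.trans ht.aut
  have hHG : Nat.card H ∣ gq (p ^ f) := by
    rw [← hG]
    exact Subgroup.card_subgroup_dvd_card H
  have hT : x.2.1 ∣ gq (p ^ f) := by
    rw [← hG, ← ht.card, ← Nat.card_congr eN.toEquiv]
    exact Subgroup.card_subgroup_dvd_card N
  have hq2 : 2 ≤ p ^ f := hp.two_le.trans (Nat.le_self_pow (by omega) p)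
  by_cases h31 : 31 ≤ p ^ f
  · exfalso
    have h1 := List.all_eq_true.1 big_all x hx
    rw [big, Bool.and_eq_true, Nat.blt_eq] at h1
    have h2 := card_le_UB hg h hH h1.1
    rw [hG] at h2
    have h3 := gq_mono h31
    omega
  · have h1 := List.all_eq_true.1 tst_all (p ^ f) (List.mem_range.2 (by omega))
    rw [Bool.or_eq_true, Bool.or_eq_true, Nat.blt_eq] at h1
    rcases h1 with (h1 | h1) | h1
    · omega
    · exfalso
      have h10 : p ^ f = 10 := by simpa using h1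
      have h3 : (2 : ℕ) ∣ p := Nat.prime_two.dvd_of_dvd_pow (by rw [h10]; norm_num)
      have h5 : (5 : ℕ) ∣ p := Nat.prime_five.dvd_of_dvd_pow (by rw [h10]; norm_num)
      have h6 := (Nat.prime_dvd_prime_iff_eq Nat.prime_two hp).1 h3
      have h7 := (Nat.prime_dvd_prime_iff_eq Nat.prime_five hp).1 h5
      omega
    · have h2 := List.all_eq_true.1 h1 x hx
      rw [Bool.or_eq_true, Bool.or_eq_true, List.any_eq_true] at h2
      rcases h2 with (⟨r, hr, h3⟩ | h2) | h2
      · exfalso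
        have h4 : r ∣ p ^ f := Nat.dvd_of_mod_eq_zero (by simpa using h3)
        have h5 := lst'_prime x hx r hr
        have h6 := (Nat.prime_dvd_prime_iff_eq h5 hp).1 (h5.dvd_of_dvd_pow h4)
        exact hpx (h6 ▸ hr)
      · exfalso
        rw [tst, Bool.or_eq_true, Bool.and_eq_true, Nat.blt_eq] at h2
        rcases h2 with h2 | ⟨h2, h3⟩
        · have h4 : gq (p ^ f) % x.2.1 ≠ 0 := by simpa using h2
          exact h4 (Nat.mod_eq_zero_of_dvd hT)
        · have h4 := card_le_UB hg h (Nat.dvd_gcd hH hHG) h2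
          rw [hG] at h4
          omega
      · simpa [or_assoc] using h2

end

/-! ### The rows with `13` -/

theorem thirteen {K : Type} [Field K] [Fintype K] {p f : ℕ} (hp : p.Prime) (hf : 1 ≤ f)
    (hK : Fintype.card K = (p ^ f) ^ 3) {H N : Subgroup ↥(Lie.twistedD4 K (p ^ f))} {T : Type} [Group T]
    {e : N ≃* (Fin 1 → T)} (h : EPS H N e) (h2 : p ^ f = 2) {t : ℕ} (ht : Nat.card T = t) (h13 : 13 ∣ t) (h53 : 53 ≤ t) :
    False := by
  have eN : N ≃* T := e.trans (MulEquiv.funUnique (Fin 1) T)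
  have hHt : t ∣ Nat.card H := by
    rw [← ht, ← Nat.card_congr eN.toEquiv]
    exact Subgroup.card_dvd_of_le h.le
  have e13 : (p ^ f) ^ 4 - (p ^ f) ^ 2 + 1 = 13 := by rw [h2]; norm_num
  have h1 := Cfsg.Agent.H476.EPX.hkf hp hf hK H (by rw [e13]; exact h13.trans hHt) h.ep.max.1
  rw [e13] at h1
  have h3 := Nat.le_of_dvd (by norm_num) (hHt.trans h1)
  omega

/-! ### The row `U₃(3)` -/

theorem u33_row {K : Type} [Field K] [Fintype K] {q : ℕ} (hK : Fintype.card K = q ^ 3)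
    {H N : Subgroup ↥(Lie.twistedD4 K q)} {T : Type} [Group T]
    {e : N ≃* (Fin 1 → T)} (h : EPS H N e) (h2 : q = 2) (ht : IsU 3 3 T) : False := by
  subst h2
  obtain ⟨F, iF, iFf, hF, ⟨u⟩⟩ := ht
  have hK8 : Fintype.card K = 8 := hK
  exact kill h hF (u.symm.trans (e.trans (MulEquiv.funUnique (Fin 1) T)).symm)
    (by rw [S1067.result Nat.prime_two.isPrimePow hK]; norm_num)
    (fun x hx => (TD42.cent_td4 hK8 x).1 hx) (fun x hx => (TD42.cent_td4 hK8 x).2 hx)

/-! ### The theorem -/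

theorem quot_bot' {G T : Type} [Group G] [Group T] {n : ℕ} {f : T →* G} (hf : Function.Injective f)
    (h : T ≃* alternatingGroup (Fin n)) :
    Nonempty (↥f.range ⧸ (⊥ : Subgroup ↥f.range) ≃* ↥(alternatingGroup (Fin n))) :=
  ⟨(QuotientGroup.quotientBot).trans ((MonoidHom.ofInjective hf).symm.trans h)⟩

theorem cross_aux (hg : Cfsg.Agent.H59.EP.TwoGen.{0}) {K : Type} [Field K] [Fintype K] {p f : ℕ} [hp : Fact p.Prime] [CharP K p] (hf : 1 ≤ f)
    [IsSimpleGroup ↥(Lie.twistedD4 K (p ^ f))] (hK : Fintype.card K = (p ^ f) ^ 3) :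
    Cfsg.Agent.H542.EPX.Cross p ↥(Lie.twistedD4 K (p ^ f)) := by
  intro H N T _ e h hsp hL
  have eN : N ≃* T := e.trans (MulEquiv.funUnique (Fin 1) T)
  have hT : Finite T := Finite.of_equiv _ eN.toEquiv
  have hs : IsSimpleGroup T := h.simple
  have hna : ¬ IsMulCommutative T := by
    obtain ⟨a, b, hab⟩ := h.nab
    exact fun h1 => hab (h1.is_comm.comm a b)
  have hinj : Function.Injective (N.subtype.comp eN.symm.toMonoidHom) := N.subtype_injective.comp eN.symm.injective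
  obtain ⟨m, hm, hc⟩ := cand_td4 (p := p) hs h.nab Cfsg.Agent.S0000.result hL hinj
  have hG : Nat.card ↥(Lie.twistedD4 K (p ^ f)) = gq (p ^ f) :=
    S1067.result (hp.out.isPrimePow.pow (by omega)) hK
  rcases od_list hna hm hc hL hsp with ⟨n, h5, ⟨eA⟩⟩ | ⟨x, hx, hpx, hod, hu⟩
  · have h7 : n ≤ 7 := by
      have h8 := S2660.result p f hf hK n _ ⊥ (quot_bot' hinj eA)
      split_ifs at h8 <;> omega
    have key : ∃ x ∈ lst', p ∉ x.1 ∧ Od x.2.1 x.2.2 T ∧ x.2.1 ≠ 1092 ∧ x.2.1 ≠ 5616 ∧ x.2.1 ≠ 6048 := by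
      have h8 : n = 5 ∨ n = 6 ∨ n = 7 := by omega
      rcases h8 with rfl | rfl | rfl
      · exact ⟨([], 60, 120), by simp [lst'], by simp, od_A le_rfl (by norm_num) eA, by norm_num, by norm_num,
          by norm_num⟩
      · exact ⟨([], 360, 1440), by simp [lst'], by simp, od_A6 eA, by norm_num, by norm_num, by norm_num⟩
      · exact ⟨([], 2520, 5040), by simp [lst'], by simp, od_A (by norm_num) (by norm_num) eA, by norm_num, by norm_num,
          by norm_num⟩
    obtain ⟨x, hx, hpx, hod, n1, n2, n3⟩ := key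
    obtain ⟨-, h9 | h9 | h9⟩ := elim hg h hp.out hf hG hx hpx hod
    · exact n1 h9
    · exact n2 h9
    · exact n3 h9
  · have hx' : x ∈ lst' := List.mem_cons_of_mem _ (List.mem_cons_of_mem _ (List.mem_cons_of_mem _ hx))
    obtain ⟨h2, h9 | h9 | h9⟩ := elim hg h hp.out hf hG hx' hpx hod
    · exact thirteen hp.out hf hK h h2 (hod.card.trans h9) (by norm_num) (by norm_num)
    · exact thirteen hp.out hf hK h h2 (hod.card.trans h9) (by norm_num) (by norm_num)
    · exact u33_row hK h h2 (hu h9)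

/-- **The cell `td4.cross`.** -/
theorem cross (hg : Cfsg.Agent.H59.EP.TwoGen.{0}) (K : Type) [Field K] [Fintype K] (p q : ℕ) [Fact p.Prime] [CharP K p]
    [IsSimpleGroup ↥(Lie.twistedD4 K q)] (hq : IsPrimePow q) (hK : Fintype.card K = q ^ 3) :
    Cfsg.Agent.H542.EPX.Cross p ↥(Lie.twistedD4 K q) := by
  obtain ⟨r, f, hr, hf, rfl⟩ := hq
  have hr' := hr.nat_prime
  have h1 : CharP K r := H364.OutLie.charP_of_card hr' (f := f * 3) (by omega) (by rw [hK, pow_mul])
  have h2 : r = p := CharP.eq K h1 ‹CharP K p›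
  subst h2
  exact cross_aux hg (by omega) hK

end Cfsg.Agent.H595.EPX
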