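import Cfsg.Agent.H595.EPX.CoreOf
import Cfsg.Agent.H936.List12c
import Cfsg.Agent.S1082
import Cfsg.Agent.ChevalleyStructure.Elts
import Cfsg.Prelude.Def_LieTwisted

/-!
# S5745: the cross characteristic simple subgroups of `D₄(q)` (helper595)

`cand_of_central` : `T` simple, a subgroup of `X / Z` with `X ≤ GL_n(K)`, `n ≤ 12`, `Z` central: `CandD p m T` (`m ≤ n`);
`cand8` : `T ≤ D₄(K)`.
-/

set_option autoImplicit false

namespace Cfsg.Agent.H595.EPX

open Cfsg Cfsg.Geo Cfsg.Agent.H915.LD Cfsg.Agent.H936.List12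
open scoped commutatorElement

/-- central products do not matter for commutators -/
theorem comm_central {P : Type*} [Group P] {c d z w : P} (hz : z ∈ Subgroup.center P) (hw : w ∈ Subgroup.center P) :
    ⁅c * z, d * w⁆ = ⁅c, d⁆ := by
  have hz' := Subgroup.mem_center_iff.1 hz
  have hw' := Subgroup.mem_center_iff.1 hw
  rw [commutatorElement_def, commutatorElement_def]
  calc c * z * (d * w) * (c * z)⁻¹ * (d * w)⁻¹
      = c * (z * d) * (w * z⁻¹) * c⁻¹ * w⁻¹ * d⁻¹ := by group
    _ = c * (d * z) * (w * z⁻¹) * c⁻¹ * w⁻¹ * d⁻¹ := by rw [hz' d]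
    _ = c * d * (z * w) * z⁻¹ * c⁻¹ * w⁻¹ * d⁻¹ := by group
    _ = c * d * (w * z) * z⁻¹ * c⁻¹ * w⁻¹ * d⁻¹ := by rw [hz' w]
    _ = c * d * (w * c⁻¹) * w⁻¹ * d⁻¹ := by group
    _ = c * d * (c⁻¹ * w) * w⁻¹ * d⁻¹ := by rw [hw' c⁻¹]
    _ = c * d * c⁻¹ * d⁻¹ := by group

/-- the perfect group over `T` -/
theorem perfect_cover {P : Type} [Group P] {T : Type} [Group T] (hT : commutator T = ⊤) {π : P →* T}
    (hπ : Function.Surjective π) (hker : π.ker ≤ Subgroup.center P) :
    commutator ↥(commutator P) = ⊤ ∧ Function.Surjective (π.comp (commutator P).subtype) ∧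
      (π.comp (commutator P).subtype).ker ≤ Subgroup.center ↥(commutator P) := by
  have h1 : ∀ t : T, ∃ c ∈ commutator P, π c = t := by
    intro t
    have h2 : t ∈ commutator T := by rw [hT]; exact Subgroup.mem_top _
    have h3 : (commutator P).map π = commutator T := by
      rw [commutator_def, Subgroup.map_commutator, ← MonoidHom.range_eq_map, MonoidHom.range_eq_top.2 hπ,
        commutator_def]
    rw [← h3] at h2
    obtain ⟨c, hc, h4⟩ := h2
    exact ⟨c, hc, h4⟩
  have h2 : ∀ a : P, ∃ c ∈ commutator P, ∃ z ∈ Subgroup.center P, a = c * z := by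
    intro a
    obtain ⟨c, hc, h3⟩ := h1 (π a)
    refine ⟨c, hc, c⁻¹ * a, hker ?_, by group⟩
    rw [MonoidHom.mem_ker, map_mul, map_inv, h3, inv_mul_cancel]
  refine ⟨?_, fun t => ?_, fun x hx => ?_⟩
  · have h3 : commutator P ≤ ⁅commutator P, commutator P⁆ := by
      conv_lhs => rw [commutator_def]
      rw [Subgroup.commutator_le]
      intro a _ b _
      obtain ⟨c, hc, z, hz, rfl⟩ := h2 a
      obtain ⟨d, hd, w, hw, rfl⟩ := h2 b
      rw [comm_central hz hw]
      exact Subgroup.commutator_mem_commutator hc hd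
    rw [eq_top_iff]
    intro x _
    have h4 : (commutator ↥(commutator P)).map (commutator P).subtype = ⁅commutator P, commutator P⁆ := by
      rw [commutator_def (↥(commutator P)), Subgroup.map_commutator, ← MonoidHom.range_eq_map, Subgroup.range_subtype]
    have h5 : (x : P) ∈ (commutator ↥(commutator P)).map (commutator P).subtype := by
      rw [h4]
      exact h3 x.2
    obtain ⟨y, hy, h6⟩ := h5
    rwa [← Subtype.ext h6]
  · obtain ⟨c, hc, h3⟩ := h1 t
    exact ⟨⟨c, hc⟩, h3⟩
  · rw [Subgroup.mem_center_iff]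
    intro y
    apply Subtype.ext
    exact Subgroup.mem_center_iff.1 (hker (MonoidHom.mem_ker.2 (MonoidHom.mem_ker.1 hx))) y

/-- **The candidates in degree at most 12.** -/
theorem cand_of_central {K : Type} [Field K] [Finite K] {p : ℕ} [Fact p.Prime] [CharP K p] {ι : Type} [Fintype ι]
    [DecidableEq ι] (hι : Fintype.card ι ≤ 12) {X : Type} [Group X] {j : X →* Matrix.GeneralLinearGroup ι K}
    (hj : Function.Injective j) {Y : Type} [Group Y] {q : X →* Y} (hq : Function.Surjective q) (hker : q.ker ≤ Subgroup.center X) {T : Type} [Group T]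
    (hT : IsSimpleGroup T) (hna : ∃ a b : T, a * b ≠ b * a) (hk : IsKnownSimple' T) (hL : ¬ IsLieTypeChar p T)
    {f : T →* Y} (hf : Function.Injective f) : ∃ m ≤ Fintype.card ι, CandD p m T := by
  classical
  have hTp : commutator T = ⊤ := by
    rcases hT.eq_bot_or_eq_top_of_normal (commutator T) inferInstance with h | h
    · exfalso
      obtain ⟨a, b, hab⟩ := hna
      apply hab
      have h1 : ⁅a, b⁆ ∈ commutator T := by
        rw [commutator_def]
        exact Subgroup.commutator_mem_commutator (Subgroup.mem_top _) (Subgroup.mem_top _)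
      rw [h, Subgroup.mem_bot] at h1
      exact commutatorElement_eq_one_iff_mul_comm.1 h1
    · exact h
  let P0 : Subgroup X := f.range.comap q
  let e : T ≃* f.range := MonoidHom.ofInjective hf
  let π0 : P0 →* f.range :=
    { toFun := fun x => ⟨q (x : X), x.2⟩
      map_one' := Subtype.ext (map_one q)
      map_mul' := fun a b => Subtype.ext (map_mul q (a : X) (b : X)) }
  let π : P0 →* T := e.symm.toMonoidHom.comp π0
  have hπe : ∀ x : P0, f (π x) = q (x : X) := by
    intro x
    have h1 : e (π x) = π0 x := e.apply_symm_apply _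
    exact congrArg Subtype.val h1
  have hπ : Function.Surjective π := by
    intro t
    obtain ⟨x, hx⟩ := hq (f t)
    refine ⟨⟨x, ⟨t, hx.symm⟩⟩, hf ?_⟩
    rw [hπe]
    exact hx
  have hπk : π.ker ≤ Subgroup.center P0 := by
    intro x hx
    rw [Subgroup.mem_center_iff]
    intro y
    have h1 : q (x : X) = 1 := by rw [← hπe, MonoidHom.mem_ker.1 hx, map_one]
    apply Subtype.ext
    exact Subgroup.mem_center_iff.1 (hker (MonoidHom.mem_ker.2 h1)) y
  obtain ⟨h1, h2, h3⟩ := perfect_cover hTp hπ hπk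
  let u : ι ≃ Fin (Fintype.card ι) := Fintype.equivFin ι
  let E : Matrix.GeneralLinearGroup ι K ≃* Matrix.GeneralLinearGroup (Fin (Fintype.card ι)) K :=
    Units.mapEquiv (Matrix.reindexAlgEquiv K K u).toMulEquiv
  let ρ : ↥(commutator ↥P0) →* Matrix.GeneralLinearGroup (Fin (Fintype.card ι)) K :=
    E.toMonoidHom.comp (j.comp (P0.subtype.comp (commutator ↥P0).subtype))
  have hρi : Function.Injective ρ :=
    E.injective.comp (hj.comp (P0.subtype_injective.comp (commutator ↥P0).subtype_injective))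
  have hρ : ρ ≠ 1 := by
    intro h
    obtain ⟨a, b, hab⟩ := hna
    apply hab
    obtain ⟨x, rfl⟩ := h2 a
    obtain ⟨y, rfl⟩ := h2 b
    have h4 : x = y := hρi (by rw [h]; rfl)
    rw [h4]
  obtain ⟨F, iF, iFf, iC, m, P', hm, hC, ⟨e'⟩⟩ := exists_core (p := p) h1 hT hna h2 h3 ρ hρ
  refine ⟨m, hm, candD_congr e' (list₂ (hm.trans hι) hC ?_ ?_)⟩
  · exact OddHalf.Known.isKnownSimple'_congr e'.symm (fun h => by
      obtain ⟨a, b, hab⟩ := hna
      exact hab (h.is_comm.comm a b)) hk
  · intro h
    exact hL (OddHalf.Known.isLieTypeChar_congr e' h)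

/-- **The candidates in `D₄`.** -/
theorem cand8 {K : Type} [Field K] [Finite K] {p : ℕ} [Fact p.Prime] [CharP K p] {T : Type} [Group T]
    (hT : IsSimpleGroup T) (hna : ∃ a b : T, a * b ≠ b * a) (hk : IsKnownSimple' T) (hL : ¬ IsLieTypeChar p T)
    {f : T →* ↥(Lie.chevD4.group K)} (hf : Function.Injective f) : ∃ m ≤ 8, CandD p m T := by
  obtain ⟨e⟩ := Cfsg.Agent.S1082.result (F := K)
  have h := cand_of_central (p := p) (ι := Fin 4 ⊕ Fin 4) (X := Omega K (quadFormPlus 4 K)) (by simp)
    (j := (isometryGroup K (quadFormPlus 4 K)).subtype.comp (Omega K (quadFormPlus 4 K)).subtype)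
    ((isometryGroup K (quadFormPlus 4 K)).subtype_injective.comp (Omega K (quadFormPlus 4 K)).subtype_injective)
    (q := QuotientGroup.mk' (Subgroup.center (Omega K (quadFormPlus 4 K)))) (QuotientGroup.mk'_surjective _)
    (by rw [QuotientGroup.ker_mk']) hT hna hk hL (f := e.toMonoidHom.comp f) (e.injective.comp hf)
  simpa using h

theorem genSubgroup_le_group {D : Lie.ChevalleyDatum} (hD : ChevalleyStructure.Elts.InList D) {F : Type*} [Field F]
    (S : Set (List (ℕ × F))) : D.genSubgroup F S ≤ D.group F := by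
  refine (Subgroup.closure_le _).2 ?_
  rintro g ⟨w, -, hg⟩
  rw [(ChevalleyStructure.Elts.eq_wordG_iff hD g w).2 hg]
  exact ChevalleyStructure.Elts.wordG_mem_group hD w

/-- **The candidates in `³D₄(q)`.** -/
theorem cand_td4 {K : Type} [Field K] [Finite K] {p q : ℕ} [Fact p.Prime] [CharP K p] {T : Type} [Group T]
    (hT : IsSimpleGroup T) (hna : ∃ a b : T, a * b ≠ b * a) (hk : IsKnownSimple' T) (hL : ¬ IsLieTypeChar p T)
    {f : T →* ↥(Lie.twistedD4 K q)} (hf : Function.Injective f) : ∃ m ≤ 8, CandD p m T := by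
  have hle : Lie.twistedD4 K q ≤ Lie.chevD4.group K :=
    genSubgroup_le_group (by simp [ChevalleyStructure.Elts.InList]) _
  exact cand8 (K := K) hT hna hk hL (f := (Subgroup.inclusion hle).comp f) ((Subgroup.inclusion_injective hle).comp hf)

end Cfsg.Agent.H595.EPX
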