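import Cfsg.Agent.H203.LSDef
import Cfsg.Agent.H267.HT.MinField

/-!
# S5745: a core from an arbitrary representation (helper595)

`exists_core` : a nontrivial representation of degree `n`, over a finite field of characteristic `p`, of a finite perfect
central extension `P` of a nonabelian simple group `T` gives a core (`H915.LD.Core`) `P'` of degree `m ≤ n` over a finite
field of characteristic `p` with `P'` modulo scalars isomorphic to `T`.
-/

set_option autoImplicit false

namespace Cfsg.Agent.H595.EPX

open Cfsg Cfsg.Geo Cfsg.Agent.H915.LD Module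
open scoped commutatorElement

/-- The field of endomorphisms. -/
theorem exists_field {K : Type} [Field K] [Finite K] {P : Type} [Group P] {U : Type} [AddCommGroup U] [Module K U]
    [FiniteDimensional K U] [Nontrivial U] (σ : P →* (U →ₗ[K] U))
    (irr : ∀ W : Submodule K U, (∀ g, ∀ v ∈ W, σ g v ∈ W) → W = ⊥ ∨ W = ⊤) :
    ∃ (D : Type) (_ : Field D) (_ : Finite D) (_ : Module D U) (κ : K →+* D), (∀ c (w : U), κ c • w = c • w) ∧
      (∀ (d : D) g w, d • (σ g w) = σ g (d • w)) ∧
      (∀ f : U →ₗ[K] U, (∀ g w, f (σ g w) = σ g (f w)) → ∃ d : D, ∀ w, d • w = f w) := by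
  classical
  have hUf : Finite U := Module.finite_of_finite K
  let S : Subalgebra K (Module.End K U) := Algebra.adjoin K (MonoidHom.mrange σ)
  have hTS : ∀ g, σ g ∈ S := fun g => Algebra.subset_adjoin ⟨g, rfl⟩
  have hsimple : IsSimpleModule S U := by
    rw [isSimpleModule_iff]
    refine { exists_pair_ne := ⟨⊥, ⊤, bot_ne_top⟩, eq_bot_or_eq_top := fun W => ?_ }
    have h1 : ∀ g : P, ∀ u ∈ W.restrictScalars K, σ g u ∈ W.restrictScalars K := by
      intro g u hu
      exact W.smul_mem (⟨σ g, hTS g⟩ : S) hu
    rcases irr (W.restrictScalars K) h1 with h2 | h2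
    · left
      exact (Submodule.restrictScalars_eq_bot_iff K S U).1 h2
    · right
      exact (Submodule.restrictScalars_eq_top_iff K S U).1 h2
  have hfinD : Finite (Module.End S U) := Finite.of_injective (fun f => (f : U → U)) DFunLike.coe_injective
  let iD : DivisionRing (Module.End S U) := Module.End.instDivisionRing
  refine ⟨Module.End S U, littleWedderburn (Module.End S U), hfinD, Module.End.applyModule,
    { toFun := fun c =>
        { toFun := fun w => c • w
          map_add' := fun x y => smul_add c x y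
          map_smul' := fun s w => by
            change c • ((s : Module.End K U) w) = (s : Module.End K U) (c • w)
            rw [map_smul] }
      map_one' := by
        apply LinearMap.ext
        intro w
        exact one_smul K w
      map_mul' := fun a b => by
        apply LinearMap.ext
        intro w
        exact mul_smul a b w
      map_zero' := by
        apply LinearMap.ext
        intro w
        exact zero_smul K w
      map_add' := fun a b => by
        apply LinearMap.ext
        intro w
        exact add_smul a b w }, fun c w => rfl, fun d g w => ?_, fun f hf => ?_⟩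
  · exact LinearMap.map_smul (d : Module.End S U) (⟨σ g, hTS g⟩ : S) w
  · have h1 : ∀ s : S, ∀ w, f (s • w) = s • f w := by
      rintro ⟨s, hs⟩
      change ∀ w, f (s w) = s (f w)
      refine Algebra.adjoin_induction (p := fun s _ => ∀ w, f (s w) = s (f w)) ?_ ?_ ?_ ?_ hs
      · rintro _ ⟨g, rfl⟩ w
        exact hf g w
      · intro c w
        change f (c • w) = c • f w
        rw [map_smul]
      · intro x y _ _ hx hy w
        rw [LinearMap.add_apply, LinearMap.add_apply, map_add, hx, hy]
      · intro x y _ _ hx hy w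
        rw [Module.End.mul_apply, Module.End.mul_apply, hx, hy]
    exact ⟨{ toFun := f, map_add' := f.map_add, map_smul' := h1 }, fun w => rfl⟩

/-- The absolutely irreducible representation over the field of endomorphisms. -/
theorem exists_absIrr {K : Type} [Field K] [Finite K] {P : Type} [Group P] {U : Type} [AddCommGroup U] [Module K U]
    [FiniteDimensional K U] [Nontrivial U] (σ : P →* (U →ₗ[K] U))
    (irr : ∀ W : Submodule K U, (∀ g, ∀ v ∈ W, σ g v ∈ W) → W = ⊥ ∨ W = ⊤) :
    ∃ (D : Type) (_ : Field D) (_ : Finite D) (_ : K →+* D) (n : ℕ) (_ : NeZero n)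
      (τ : P →* Matrix.GeneralLinearGroup (Fin n) D),
      n ≤ finrank K U ∧ (∀ g, τ g = 1 ↔ σ g = 1) ∧ ActsAbsolutelyIrreducibly (matrixSet τ.range) := by
  classical
  have hUf : Finite U := Module.finite_of_finite K
  obtain ⟨D, iF, hDfin, iM, κ, hκ, hto, hfrom⟩ := exists_field σ irr
  have hUD : Module.Finite D U := Module.Finite.of_finite
  have hcard : Nat.card K ^ finrank K U = Nat.card D ^ finrank D U := by
    rw [← Module.natCard_eq_pow_finrank (K := K) (V := U), ← Module.natCard_eq_pow_finrank (K := D) (V := U)]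
  have hKD : Nat.card K ≤ Nat.card D := Nat.card_le_card_of_injective κ κ.injective
  have hn : finrank D U ≤ finrank K U := by
    have h1 : 1 < Nat.card K := Finite.one_lt_card
    have h2 : Nat.card K ^ finrank D U ≤ Nat.card K ^ finrank K U := by
      rw [hcard]
      exact Nat.pow_le_pow_left hKD _
    exact (Nat.pow_le_pow_iff_right h1).1 h2
  -- the matrices
  let T : P →* Module.End D U :=
    { toFun := fun g =>
        { toFun := fun w => σ g w
          map_add' := fun x y => map_add _ x y
          map_smul' := fun c w => (hto c g w).symm }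
      map_one' := by
        apply LinearMap.ext
        intro w
        change σ 1 w = w
        rw [map_one]
        rfl
      map_mul' := fun a b => by
        apply LinearMap.ext
        intro w
        change σ (a * b) w = σ a (σ b w)
        rw [map_mul]
        rfl }
  have hT : ∀ g w, T g w = σ g w := fun g w => rfl
  let n := finrank D U
  let b : Module.Basis (Fin n) D U := Module.finBasisOfFinrankEq D U rfl
  let τ : P →* Matrix.GeneralLinearGroup (Fin n) D :=
    ((LinearMap.toMatrixAlgEquiv b).toAlgHom.toRingHom.toMonoidHom.comp T).toHomUnits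
  have hτ : ∀ g, ((τ g : Matrix.GeneralLinearGroup (Fin n) D) : Matrix (Fin n) (Fin n) D) = LinearMap.toMatrix b b (T g) :=
    fun g => rfl
  have hτv : ∀ g w, ((τ g : Matrix.GeneralLinearGroup (Fin n) D) : Matrix (Fin n) (Fin n) D).mulVec (b.repr w) =
      b.repr (σ g w) := by
    intro g w
    rw [hτ, LinearMap.toMatrix_mulVec_repr, hT]
  have hn0 : NeZero n := ⟨(Module.finrank_pos (R := D) (M := U)).ne'⟩
  refine ⟨D, iF, hDfin, κ, n, hn0, τ, hn, fun g => ⟨fun h => ?_, fun h => ?_⟩, fun W hW => ?_, fun M hM => ?_⟩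
  · apply LinearMap.ext
    intro w
    apply b.repr.injective
    apply DFunLike.coe_injective
    rw [← hτv, h, Units.val_one, Matrix.one_mulVec]
    rfl
  · apply Units.ext
    rw [hτ, Units.val_one]
    have h1 : T g = LinearMap.id := by
      apply LinearMap.ext
      intro w
      rw [hT, h]
      rfl
    rw [h1, LinearMap.toMatrix_id]
  · let W' : Submodule D U := W.comap (b.equivFun : U →ₗ[D] (Fin n → D))
    have hmem : ∀ v, v ∈ W' ↔ (⇑(b.repr v) : Fin n → D) ∈ W := fun v => Iff.rfl
    let W'' : Submodule K U :=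
      { carrier := {v | v ∈ W'}
        add_mem' := fun h h' => W'.add_mem h h'
        zero_mem' := W'.zero_mem
        smul_mem' := fun c v hv => by
          have := W'.smul_mem (κ c) hv
          rwa [hκ] at this }
    have hmem' : ∀ v, v ∈ W'' ↔ v ∈ W' := fun v => Iff.rfl
    have hst : ∀ g, ∀ v ∈ W'', σ g v ∈ W'' := by
      intro g v hv
      rw [hmem', hmem] at hv ⊢
      rw [← hτv, ← Matrix.toLin'_apply]
      exact hW _ ⟨_, ⟨g, rfl⟩, rfl⟩ (Submodule.mem_map_of_mem hv)
    rcases irr W'' hst with h1 | h1
    · left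
      rw [Submodule.eq_bot_iff]
      intro x hx
      have h2 : b.equivFun.symm x ∈ W'' := by
        rw [hmem', hmem]
        change b.equivFun (b.equivFun.symm x) ∈ W
        rwa [LinearEquiv.apply_symm_apply]
      rw [h1, Submodule.mem_bot] at h2
      rw [← b.equivFun.apply_symm_apply x, h2, map_zero]
    · right
      rw [Submodule.eq_top_iff']
      intro x
      have h2 : b.equivFun.symm x ∈ W'' := by rw [h1]; trivial
      rw [hmem', hmem] at h2
      have h3 : b.equivFun (b.equivFun.symm x) ∈ W := h2
      rwa [LinearEquiv.apply_symm_apply] at h3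
  · let f : U →ₗ[D] U := Matrix.toLin b b M
    have hf : ∀ v, (⇑(b.repr (f v)) : Fin n → D) = M.mulVec (b.repr v) := by
      intro v
      rw [← LinearMap.toMatrix_mulVec_repr b b f v, LinearMap.toMatrix_toLin]
    let f' : U →ₗ[K] U :=
      { toFun := fun v => f v
        map_add' := fun x y => map_add f x y
        map_smul' := fun c v => by
          change f (c • v) = c • f v
          rw [← hκ, map_smul, hκ] }
    have hf' : ∀ v, f' v = f v := fun v => rfl
    obtain ⟨c, hc⟩ := hfrom f' (by
      intro g v
      rw [hf', hf']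
      apply b.repr.injective
      apply DFunLike.coe_injective
      change (⇑(b.repr (f (σ g v))) : Fin n → D) = ⇑(b.repr (σ g (f v)))
      rw [hf, ← hτv, ← hτv, hf, Matrix.mulVec_mulVec, Matrix.mulVec_mulVec, hM _ ⟨_, ⟨g, rfl⟩, rfl⟩])
    refine ⟨c, ?_⟩
    have h5 : f = c • (1 : U →ₗ[D] U) := by
      apply LinearMap.ext
      intro v
      exact (hc v).symm
    have h6 : LinearMap.toMatrix b b f = M := LinearMap.toMatrix_toLin b b M
    rw [← h6, h5, map_smul]
    congr 1
    exact LinearMap.toMatrix_one b

/-- **A core from a nontrivial projective representation.** -/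
theorem exists_core {K : Type} [Field K] [Finite K] {p : ℕ} [CharP K p] {P : Type} [Group P]
    (hperf : commutator P = ⊤) {T : Type} [Group T] (hT : IsSimpleGroup T) (hna : ∃ a b : T, a * b ≠ b * a)
    {π : P →* T} (hπ : Function.Surjective π) (hker : π.ker ≤ Subgroup.center P) {n : ℕ}
    (ρ : P →* Matrix.GeneralLinearGroup (Fin n) K) (hρ : ρ ≠ 1) :
    ∃ (F : Type) (_ : Field F) (_ : Finite F) (_ : CharP F p) (m : ℕ) (P' : Subgroup (Matrix.GeneralLinearGroup (Fin m) F)),
      m ≤ n ∧ Core P' ∧ Nonempty (Soc P' ≃* T) := by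
  classical
  let ρ1 : P →* ((Fin n → K) →ₗ[K] (Fin n → K)) :=
    { toFun := fun g => Matrix.toLin' (ρ g : Matrix (Fin n) (Fin n) K)
      map_one' := by
        simp only [map_one, Matrix.GeneralLinearGroup.coe_one]
        rw [Matrix.toLin'_one]; rfl
      map_mul' := fun a b => by
        rw [map_mul, Matrix.GeneralLinearGroup.coe_mul, Matrix.toLin'_mul]
        rfl }
  have hne : ∃ g, ρ1 g ≠ 1 := by
    by_contra hcon
    push Not at hcon
    apply hρ
    apply MonoidHom.ext
    intro g
    apply Units.ext
    apply Matrix.toLin'.injective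
    rw [MonoidHom.one_apply, Units.val_one, Matrix.toLin'_one]
    exact hcon g
  obtain ⟨U, i1, i2, i3, σ, h2, ⟨g0, hg0⟩, h4⟩ := Cfsg.Agent.H203.LS.exists_irr hperf _ (Fin n → K) le_rfl ρ1 hne
  rw [Module.finrank_fin_fun] at h2
  have hnt : Nontrivial U := by
    by_contra hcon
    rw [not_nontrivial_iff_subsingleton] at hcon
    exact hg0 (Subsingleton.elim _ _)
  obtain ⟨D, iD, iDf, κ, m, hm0, τ, hm, hτ, habs⟩ := exists_absIrr σ h4
  have hch : CharP D p := charP_of_injective_ringHom κ.injective p
  obtain ⟨N, hN⟩ : ∃ N : Subgroup P, N = τ.ker := ⟨_, rfl⟩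
  have hNn : N.Normal := by rw [hN]; infer_instance
  have hNt : N ≠ ⊤ := by
    intro h
    apply hg0
    rw [← hτ, ← MonoidHom.mem_ker, ← hN, h]
    exact Subgroup.mem_top _
  -- `N ≤ ker π`
  have hNk : N ≤ π.ker := by
    have hmn : (N.map π).Normal := Subgroup.Normal.map hNn π hπ
    rcases hT.eq_bot_or_eq_top_of_normal _ hmn with h | h
    · rwa [Subgroup.map_eq_bot_iff] at h
    · exfalso
      apply hNt
      rw [eq_top_iff, ← hperf, commutator_def, Subgroup.commutator_le]
      have key : ∀ a : P, ∃ a' ∈ N, ∃ z ∈ Subgroup.center P, a = a' * z := by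
        intro a
        have h5 : π a ∈ N.map π := by rw [h]; exact Subgroup.mem_top _
        obtain ⟨a', ha', h6⟩ := h5
        refine ⟨a', ha', a'⁻¹ * a, hker ?_, by group⟩
        rw [MonoidHom.mem_ker, map_mul, map_inv, h6, inv_mul_cancel]
      intro a _ b _
      obtain ⟨a', ha', z, hz, rfl⟩ := key a
      obtain ⟨b', hb', w, hw, rfl⟩ := key b
      have hz' := Subgroup.mem_center_iff.1 hz
      have hw' := Subgroup.mem_center_iff.1 hw
      have h7 : ⁅a' * z, b' * w⁆ = ⁅a', b'⁆ := by
        rw [commutatorElement_def, commutatorElement_def]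
        calc a' * z * (b' * w) * (a' * z)⁻¹ * (b' * w)⁻¹
            = a' * (z * b') * (w * z⁻¹) * a'⁻¹ * w⁻¹ * b'⁻¹ := by group
          _ = a' * (b' * z) * (w * z⁻¹) * a'⁻¹ * w⁻¹ * b'⁻¹ := by rw [hz' b']
          _ = a' * b' * (z * w) * z⁻¹ * a'⁻¹ * w⁻¹ * b'⁻¹ := by group
          _ = a' * b' * (w * z) * z⁻¹ * a'⁻¹ * w⁻¹ * b'⁻¹ := by rw [hz' w]
          _ = a' * b' * (w * a'⁻¹) * w⁻¹ * b'⁻¹ := by group
          _ = a' * b' * (a'⁻¹ * w) * w⁻¹ * b'⁻¹ := by rw [hw' a'⁻¹]
          _ = a' * b' * a'⁻¹ * b'⁻¹ := by group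
      rw [h7]
      exact N.mul_mem (N.mul_mem (N.mul_mem ha' hb') (N.inv_mem ha')) (N.inv_mem hb')
  let L := P ⧸ N
  let q : P →* L := QuotientGroup.mk' N
  have hq : Function.Surjective q := QuotientGroup.mk'_surjective N
  let π' : L →* T := QuotientGroup.lift N π fun x hx => hNk hx
  have hπ'q : ∀ x, π' (q x) = π x := fun x => rfl
  have hπ' : Function.Surjective π' := fun t => by
    obtain ⟨x, rfl⟩ := hπ t
    exact ⟨q x, rfl⟩
  let τ' : L →* Matrix.GeneralLinearGroup (Fin m) D := QuotientGroup.lift N τ fun x hx => by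
    rw [hN] at hx
    exact hx
  have hτ'q : ∀ x, τ' (q x) = τ x := fun x => rfl
  have hτ'i : Function.Injective τ' := by
    rw [injective_iff_map_eq_one]
    intro x hx
    obtain ⟨y, rfl⟩ := hq x
    rw [hτ'q, ← MonoidHom.mem_ker, ← hN] at hx
    exact (QuotientGroup.eq_one_iff y).2 hx
  have hrange : τ'.range = τ.range := by
    ext x
    constructor
    · rintro ⟨y, rfl⟩
      obtain ⟨z, rfl⟩ := hq y
      exact ⟨z, rfl⟩
    · rintro ⟨z, rfl⟩
      exact ⟨q z, rfl⟩
  have hLp : commutator L = ⊤ := by
    rw [eq_top_iff]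
    intro x _
    obtain ⟨y, rfl⟩ := hq x
    have h5 : y ∈ commutator P := by rw [hperf]; exact Subgroup.mem_top _
    have h6 : q y ∈ (commutator P).map q := Subgroup.mem_map_of_mem q h5
    rw [commutator_def, Subgroup.map_commutator] at h6
    exact Subgroup.commutator_mono le_top le_top h6
  have hLna : ∃ a b : L, a * b ≠ b * a := by
    obtain ⟨a, b, hab⟩ := hna
    obtain ⟨x, rfl⟩ := hπ' a
    obtain ⟨y, rfl⟩ := hπ' b
    refine ⟨x, y, fun h => hab ?_⟩
    rw [← map_mul, h, map_mul]
  have hcen : Subgroup.center L = π'.ker := by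
    ext z
    constructor
    · intro hz
      rw [MonoidHom.mem_ker]
      by_contra hz1
      have h5 : π' z ∈ Subgroup.center T := by
        rw [Subgroup.mem_center_iff]
        intro t
        obtain ⟨x, rfl⟩ := hπ' t
        rw [← map_mul, Subgroup.mem_center_iff.1 hz x, map_mul]
      rcases hT.eq_bot_or_eq_top_of_normal (Subgroup.center T) inferInstance with h | h
      · rw [h, Subgroup.mem_bot] at h5
        exact hz1 h5
      · obtain ⟨a, b, hab⟩ := hna
        apply hab
        have h6 : a ∈ Subgroup.center T := by rw [h]; exact Subgroup.mem_top _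
        exact (Subgroup.mem_center_iff.1 h6 b).symm
    · intro hz
      obtain ⟨x, rfl⟩ := hq z
      rw [MonoidHom.mem_ker, hπ'q] at hz
      have h5 := hker (MonoidHom.mem_ker.2 hz)
      rw [Subgroup.mem_center_iff]
      intro y
      obtain ⟨w, rfl⟩ := hq y
      rw [← map_mul, Subgroup.mem_center_iff.1 h5 w, map_mul]
  have e1 : L ⧸ Subgroup.center L ≃* T :=
    (QuotientGroup.quotientMulEquivOfEq hcen).trans (QuotientGroup.quotientKerEquivOfSurjective π' hπ')
  have hLs : IsSimpleGroup (L ⧸ Subgroup.center L) := (MulEquiv.isSimpleGroup_congr e1).2 hT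
  obtain ⟨F, σ', -, -, hC, ⟨e2⟩, -⟩ := Cfsg.Agent.H267.HT.exists_core_of_rep hLp hLs hLna hτ'i (by rw [hrange]; exact habs)
  exact ⟨F, inferInstance, inferInstance, (algebraMap F D).charP (algebraMap F D).injective p, m, σ'.range, hm.trans h2,
    hC, ⟨e2.trans e1⟩⟩

end Cfsg.Agent.H595.EPX
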