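import Cfsg.Agent.H807.EPX.EPi

/-!
# S5745: weighted fixed point counts (helper595)

* `weighted` : `W (n - 1) ≤ ∑ f x (Fx x - 1)` if every two-point stabiliser has weight at least `W`;
* `card_ord_of_sylow`, `le_card_ord` : elements of prime order and Sylow subgroups of prime order.
-/

set_option autoImplicit false

namespace Cfsg.Agent.H595.EPX

open MulAction Subgroup Cfsg.Agent.H284 Cfsg.Agent.H807.EPX

variable {G : Type*} [Group G]

/-- **Weighted fixed point count.** -/
theorem weighted [Finite G] {H : Subgroup G} (P : Finset G) (hP : ∀ x ∈ P, x ∈ H) (f : G → ℕ) (W : ℕ)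
    (hW : ∀ y ∉ H, ∃ R : Finset G, (∀ x ∈ R, x ∈ P ∧ x ∈ cj y H) ∧ W ≤ ∑ x ∈ R, f x) :
    W * (H.index - 1) ≤ ∑ x ∈ P, f x * (Fx H x - 1) := by
  classical
  have := Fintype.ofFinite (G ⧸ H)
  set o : G ⧸ H := ((1 : G) : G ⧸ H) with ho
  have hFx : ∀ x ∈ P, Fx H x - 1 = ((Finset.univ.erase o).filter fun c : G ⧸ H => x • c = c).card := by
    intro x hx
    rw [Finset.filter_erase]
    have h1 : o ∈ Finset.filter (fun c : G ⧸ H => x • c = c) Finset.univ := by
      rw [Finset.mem_filter]
      refine ⟨Finset.mem_univ _, ?_⟩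
      rw [ho, smul_mk_eq]
      simpa using hP x hx
    have h2 : Fx H x = (Finset.filter (fun c : G ⧸ H => x • c = c) Finset.univ).card := by
      rw [Fx, Set.ncard_eq_toFinset_card']
      congr 1
      ext c
      simp
    rw [Finset.card_erase_of_mem h1, h2]
  have hS : ∑ x ∈ P, f x * (Fx H x - 1) =
      ∑ c ∈ Finset.univ.erase o, ∑ x ∈ P, if x • c = c then f x else 0 := by
    rw [Finset.sum_comm]
    apply Finset.sum_congr rfl
    intro x hx
    rw [hFx x hx, Finset.card_filter, Finset.mul_sum]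
    apply Finset.sum_congr rfl
    intro c _
    split_ifs
    · rw [mul_one]
    · rw [mul_zero]
  have hn : W * (H.index - 1) = ∑ c ∈ (Finset.univ : Finset (G ⧸ H)).erase o, W := by
    rw [Finset.sum_const, smul_eq_mul, Finset.card_erase_of_mem (Finset.mem_univ _), Finset.card_univ,
      ← Nat.card_eq_fintype_card, mul_comm]
    rfl
  rw [hS, hn]
  apply Finset.sum_le_sum
  intro c hc
  obtain ⟨y, rfl⟩ := QuotientGroup.mk_surjective c
  have hy : y ∉ H := by
    intro hy
    apply (Finset.mem_erase.1 hc).1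
    rw [ho, eq_comm, QuotientGroup.eq, inv_one, one_mul]
    exact hy
  obtain ⟨R, hR, hRW⟩ := hW y hy
  refine hRW.trans ?_
  have h1 : ∑ x ∈ R, f x = ∑ x ∈ R, if x • (y : G ⧸ H) = y then f x else 0 := by
    apply Finset.sum_congr rfl
    intro x hx
    rw [if_pos]
    rw [smul_mk_eq]
    exact mem_cj.1 (hR x hx).2
  rw [h1]
  exact Finset.sum_le_sum_of_subset fun x hx => (hR x hx).1

/-- the elements of order `r` of a group with Sylow `r`-subgroups of order `r` -/
theorem le_card_ord {M : Type*} [Group M] [Finite M] {r : ℕ} [Fact r.Prime]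
    (h1 : ∀ P : Sylow r M, Nat.card P = r) :
    Nat.card (Sylow r M) * (r - 1) ≤ Nat.card {x : M // orderOf x = r} := by
  classical
  have hr : r.Prime := Fact.out
  have hf1 : Finite (Sylow r M) := inferInstance
  have := Fintype.ofFinite (Sylow r M)
  have h2 : ∀ P : Sylow r M, Nat.card {u : P // u ≠ 1} = r - 1 := by
    intro P
    have h8 : Nat.card {u : P // u = 1} = 1 := by
      rw [Nat.card_eq_one_iff_unique]
      exact ⟨⟨fun a b => Subtype.ext (a.2.trans b.2.symm)⟩, ⟨⟨1, rfl⟩⟩⟩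
    have h9 : Nat.card P = Nat.card {u : P // u = 1} + Nat.card {u : P // u ≠ 1} := by
      rw [← Nat.card_sum]
      exact Nat.card_congr (Equiv.sumCompl (fun u : P => u = 1)).symm
    rw [h1, h8] at h9
    omega
  have h3 : Nat.card (Σ P : Sylow r M, {u : P // u ≠ 1}) = Nat.card (Sylow r M) * (r - 1) := by
    rw [Nat.card_sigma, Finset.sum_congr rfl (fun P _ => h2 P), Finset.sum_const, Finset.card_univ, smul_eq_mul,
      ← Nat.card_eq_fintype_card]
  rw [← h3]
  have ho : ∀ (P : Sylow r M) (u : {u : P // u ≠ 1}), orderOf ((u.1 : P) : M) = r := by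
    intro P u
    rw [Subgroup.orderOf_coe]
    have h4 : orderOf (u.1 : P) ∣ r := (_root_.orderOf_dvd_natCard _).trans (dvd_of_eq (h1 P))
    rcases (Nat.dvd_prime hr).1 h4 with h5 | h5
    · exact absurd (orderOf_eq_one_iff.1 h5) u.2
    · exact h5
  let f : (Σ P : Sylow r M, {u : P // u ≠ 1}) → {x : M // orderOf x = r} := fun a => ⟨((a.2.1 : a.1) : M), ho a.1 a.2⟩
  refine Nat.card_le_card_of_injective f ?_
  rintro ⟨P, u⟩ ⟨Q, v⟩ huv
  have h5 : ((u.1 : P) : M) = ((v.1 : Q) : M) := congrArg Subtype.val huv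
  have h6 : ∀ (P : Sylow r M) (u : {u : P // u ≠ 1}), (P : Subgroup M) = zpowers ((u.1 : P) : M) := by
    intro P u
    symm
    apply Subgroup.eq_of_le_of_card_ge
    · rw [zpowers_le]
      exact u.1.2
    · rw [Nat.card_zpowers, ho]
      exact (h1 P).le
  have h7 : P = Q := Sylow.ext (by rw [h6 P u, h6 Q v, h5])
  subst h7
  have h8 : u = v := Subtype.ext (Subtype.ext h5)
  rw [h8]

/-- upper bound -/
theorem card_ord_le {M : Type*} [Group M] [Finite M] {r : ℕ} [Fact r.Prime]
    (h1 : ∀ P : Sylow r M, Nat.card P = r) :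
    Nat.card {x : M // orderOf x = r} ≤ Nat.card (Sylow r M) * (r - 1) := by
  classical
  have hr : r.Prime := Fact.out
  have := Fintype.ofFinite (Sylow r M)
  have h2 : ∀ P : Sylow r M, Nat.card {u : P // u ≠ 1} = r - 1 := by
    intro P
    have h8 : Nat.card {u : P // u = 1} = 1 := by
      rw [Nat.card_eq_one_iff_unique]
      exact ⟨⟨fun a b => Subtype.ext (a.2.trans b.2.symm)⟩, ⟨⟨1, rfl⟩⟩⟩
    have h9 : Nat.card P = Nat.card {u : P // u = 1} + Nat.card {u : P // u ≠ 1} := by
      rw [← Nat.card_sum]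
      exact Nat.card_congr (Equiv.sumCompl (fun u : P => u = 1)).symm
    rw [h1, h8] at h9
    omega
  have h3 : Nat.card (Σ P : Sylow r M, {u : P // u ≠ 1}) = Nat.card (Sylow r M) * (r - 1) := by
    rw [Nat.card_sigma, Finset.sum_congr rfl (fun P _ => h2 P), Finset.sum_const, Finset.card_univ, smul_eq_mul,
      ← Nat.card_eq_fintype_card]
  rw [← h3]
  have h4 : ∀ t : {x : M // orderOf x = r}, ∃ P : Sylow r M, t.1 ∈ P := by
    intro t
    have : IsPGroup r (zpowers t.1) := by
      refine IsPGroup.of_card (n := 1) ?_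
      rw [Nat.card_zpowers, pow_one, t.2]
    obtain ⟨P, hP⟩ := this.exists_le_sylow
    exact ⟨P, hP (mem_zpowers _)⟩
  choose P hP using h4
  let f : {x : M // orderOf x = r} → Σ P : Sylow r M, {u : P // u ≠ 1} :=
    fun t => ⟨P t, ⟨⟨t.1, hP t⟩, fun h => by
      have h5 : t.1 = 1 := congrArg Subtype.val h
      have h6 := t.2
      rw [h5, orderOf_one] at h6
      exact hr.one_lt.ne h6⟩⟩
  refine Nat.card_le_card_of_injective f ?_
  intro s t h
  apply Subtype.ext
  have h2 : ∀ a b : Σ P : Sylow r M, {u : P // u ≠ 1}, a = b → (a.2.1 : M) = b.2.1 := by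
    rintro a _ rfl; rfl
  exact h2 _ _ h

end Cfsg.Agent.H595.EPX
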